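import Mathlib.LinearAlgebra.Matrix.Trace
import Cfsg.Agent.Lib.BrauerPairs.CornerAlgebra

/-!
# A summand whose trace forms have the dimension of its corner

If the trace forms on `e * A` have the dimension of the corner `f * A * f`, the corner is
commutative. Its elements then extend to central elements of the summand, and for a symmetric
nondegenerate functional `lam` and an element `s` of nonzero trace, every nonzero central element
of the summand has a central multiple `z * w` with `lam (z * w * s) ≠ 0`.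
-/

set_option autoImplicit false
set_option linter.style.haveILetI false

namespace Cfsg.Agent.Lib.EqualDegree.Corner

open Module Cfsg.Agent.Lib.BrauerPairs.CornerAlgebra

variable {k : Type*} [Field k] {A : Type*} [Ring A] [Algebra k A] [FiniteDimensional k A] {n : ℕ}
  {π : A →ₐ[k] Matrix (Fin n) (Fin n) k}
  {e : A} (he : e * e = e) (hc : ∀ x : A, e * x = x * e) (hπe : π e = 1)
  {N : ℕ} (hN : kerPart π e ^ (N + 1) = ⊥) {i₀ : Fin n} (U : Units π e i₀)

include hc in
theorem b_mul_e (i : Fin n) : U.b i * e = U.b i := by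
  rw [← hc, ← U.f_b, ← mul_assoc, U.e_f]

include hc in
theorem b_mul_a_mem (x : A) (i j : Fin n) : U.b i * x * U.a j ∈ corner k U.f :=
  mem_corner.mpr ⟨by rw [← mul_assoc, ← mul_assoc, U.f_b], by rw [mul_assoc, U.a_f]⟩

include hc hN in
/-- The units are exact. -/
theorem ba_eq (i l : Fin n) : U.b i * U.a l = if i = l then U.f else 0 := by
  classical
  let m : Fin n → Fin n → A := fun i j => (if i = j then U.f else 0) - U.b i * U.a j
  have heb : ∀ i, e * U.b i = U.b i := fun i => by rw [← U.f_b, ← mul_assoc, U.e_f]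
  have hm : ∀ i j, m i j ∈ kerPart π e := fun i j => by
    rw [mem_kerPart]
    refine ⟨?_, ?_⟩
    · simp only [m]
      rw [mul_sub, ← mul_assoc, heb]
      split_ifs <;> simp [U.e_f]
    · simp only [m]
      rw [map_sub, U.pi_ba]
      split_ifs <;> simp
  have hmm : ∀ i, m i l = ∑ j, m i j * m j l := fun i => by
    have h1 : ∑ j, U.b i * U.a j * (U.b j * U.a l) = U.b i * U.a l := by
      calc ∑ j, U.b i * U.a j * (U.b j * U.a l) = U.b i * (∑ j, U.a j * U.b j) * U.a l := by
            rw [Finset.mul_sum, Finset.sum_mul]; simp [mul_assoc]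
        _ = _ := by rw [U.sum_eq, b_mul_e hc U]
    have h2 : U.f * (U.b i * U.a l) = U.b i * U.a l := by rw [← mul_assoc, U.f_b]
    have h3 : U.b i * U.a l * U.f = U.b i * U.a l := by rw [mul_assoc, U.a_f]
    simp only [m, sub_mul, mul_sub, Finset.sum_sub_distrib, ite_mul, mul_ite, mul_zero, zero_mul,
      Finset.sum_ite_eq, Finset.sum_ite_eq', Finset.mem_univ, if_true, U.f_idem, h1, h2, h3]
    split_ifs <;> abel
  exact (sub_eq_zero.mp (eq_zero_of_left hN (y := fun j => m j l) hm hmm i)).symm

include hc in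
theorem pi_sum_eq {c : A} (hcc : c ∈ corner k U.f) :
    π c = (π c).trace • Matrix.single i₀ i₀ 1 := by
  obtain ⟨h1, h2⟩ := mem_corner.mp hcc
  have h : π c = Matrix.single i₀ i₀ 1 * π c * Matrix.single i₀ i₀ 1 := by
    rw [← U.pi_f, ← map_mul, ← map_mul, h1, h2]
  rw [Matrix.single_mul_mul_single, one_mul, mul_one] at h
  have ht : (π c).trace = π c i₀ i₀ := by
    conv_lhs => rw [h]
    exact Matrix.trace_single_eq_same _ _
  rw [ht, Matrix.smul_single, smul_eq_mul, mul_one]
  exact h

include hc hN in
/-- An element of the corner of nonzero trace cancels. -/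
theorem eq_zero_of_mul_eq_zero {c : A} (hcc : c ∈ corner k U.f) (ht : (π c).trace ≠ 0) {y : A}
    (hy : y * U.f = y) (h : y * c = 0) : y = 0 := by
  set t := (π c).trace with htdef
  have hm : U.f - t⁻¹ • c ∈ kerPart π e := by
    rw [mem_kerPart]
    refine ⟨?_, ?_⟩
    · rw [mul_sub, mul_smul_comm, U.e_f, ← (mem_corner.mp hcc).1, ← mul_assoc, U.e_f]
    · rw [map_sub, map_smul, pi_sum_eq hc U hcc, ← htdef, U.pi_f, smul_smul, inv_mul_cancel₀ ht,
        one_smul, sub_self]
  exact eq_zero_of_right hN (ι := Unit) (y := fun _ => y) (m := fun _ _ => U.f - t⁻¹ • c)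
    (fun _ _ => hm) (fun _ => by
      rw [Fintype.sum_unique, mul_sub, mul_smul_comm, h, hy, smul_zero, sub_zero]) ()

include hc in
/-- If the trace forms have the dimension of the corner, the corner is commutative. -/
theorem comm_of_finrank (h : finrank k (traceForms k e) = finrank k (corner k U.f)) {x y : A}
    (hx : x ∈ corner k U.f) (hy : y ∈ corner k U.f) : x * y = y * x := by
  set C := corner k U.f
  let R : traceForms k e →ₗ[k] Dual k C := C.subtype.dualMap.comp (traceForms k e).subtype
  have hinj : Function.Injective R := by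
    intro Φ Ψ h
    apply Subtype.ext
    refine LinearMap.ext fun x => ?_
    have key : ∀ Φ : traceForms k e, (Φ : Dual k A) x =
        ∑ i, (Φ : Dual k A) (U.b i * x * U.a i) := fun Φ => by
      rw [← (mem_traceForms.mp Φ.2).1 x, show e * x = (∑ i, U.a i * U.b i) * x by rw [U.sum_eq],
        Finset.sum_mul, map_sum]
      refine Finset.sum_congr rfl fun i _ => ?_
      rw [mul_assoc, (mem_traceForms.mp Φ.2).2]
    rw [key Φ, key Ψ]
    exact Finset.sum_congr rfl fun i _ => LinearMap.congr_fun h ⟨_, b_mul_a_mem hc U x i i⟩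
  have hfr : finrank k (traceForms k e) = finrank k (Dual k C) :=
    h.trans (Subspace.dual_finrank_eq (K := k) (V := C)).symm
  have hsurj : Function.Surjective R :=
    (@LinearMap.injective_iff_surjective_of_finrank_eq_finrank k (traceForms k e) _ _ _ (Dual k C)
      _ _ _ _ hfr R).mp hinj
  have hxy : x * y ∈ C := mem_corner.mpr ⟨by rw [← mul_assoc, (mem_corner.mp hx).1],
    by rw [mul_assoc, (mem_corner.mp hy).2]⟩
  have hyx : y * x ∈ C := mem_corner.mpr ⟨by rw [← mul_assoc, (mem_corner.mp hy).1],
    by rw [mul_assoc, (mem_corner.mp hx).2]⟩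
  have : (⟨x * y, hxy⟩ : C) = ⟨y * x, hyx⟩ := by
    rw [← sub_eq_zero, ← Module.forall_dual_apply_eq_zero_iff k]
    intro φ
    obtain ⟨Φ, rfl⟩ := hsurj φ
    rw [map_sub, sub_eq_zero]
    exact (mem_traceForms.mp Φ.2).2 x y
  exact congrArg Subtype.val this

/-- The extension of an element of the corner to the summand. -/
def spread (c : A) : A := ∑ i, U.a i * c * U.b i

variable (hcomm : ∀ x ∈ corner k U.f, ∀ y ∈ corner k U.f, x * y = y * x)

theorem e_mul_spread (c : A) : e * spread U c = spread U c := by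
  simp [spread, Finset.mul_sum, ← mul_assoc, U.e_a]

include hc hcomm in
theorem spread_comm {c : A} (hcc : c ∈ corner k U.f) (x : A) :
    spread U c * x = x * spread U c := by
  classical
  have hae : ∀ j, U.a j = e * U.a j := fun j => (U.e_a j).symm
  have h1 : ∀ i, U.b i * x = ∑ j, U.b i * x * U.a j * U.b j := fun i => by
    calc U.b i * x = U.b i * e * x := by rw [b_mul_e hc U]
      _ = U.b i * x * ∑ j, U.a j * U.b j := by rw [U.sum_eq, mul_assoc, hc, ← mul_assoc]
      _ = _ := by rw [Finset.mul_sum]; simp [mul_assoc]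
  have h2 : ∀ j, x * U.a j = ∑ i, U.a i * (U.b i * x * U.a j) := fun j => by
    calc x * U.a j = e * (x * U.a j) := by rw [← mul_assoc, hc, mul_assoc, U.e_a]
      _ = (∑ i, U.a i * U.b i) * (x * U.a j) := by rw [U.sum_eq]
      _ = _ := by rw [Finset.sum_mul]; exact Finset.sum_congr rfl fun i _ => by simp [mul_assoc]
  have hl : spread U c * x = ∑ i, ∑ j, U.a i * (c * (U.b i * x * U.a j)) * U.b j := by
    rw [spread, Finset.sum_mul]
    refine Finset.sum_congr rfl fun i _ => ?_
    conv_lhs => rw [mul_assoc, h1, Finset.mul_sum]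
    simp [mul_assoc]
  have hr : x * spread U c = ∑ i, ∑ j, U.a i * (U.b i * x * U.a j * c) * U.b j := by
    rw [spread, Finset.mul_sum, Finset.sum_comm]
    refine Finset.sum_congr rfl fun j _ => ?_
    rw [mul_assoc (U.a j), ← mul_assoc x, h2, Finset.sum_mul]
    simp [mul_assoc]
  rw [hl, hr]
  exact Finset.sum_congr rfl fun i _ => Finset.sum_congr rfl fun j _ => by
    rw [hcomm c hcc _ (b_mul_a_mem hc U x i j)]

include hc hcomm in
theorem spread_mul_f {c : A} (hcc : c ∈ corner k U.f) : spread U c * U.f = c := by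
  have hfa : ∀ i, U.f * U.a i ∈ corner k U.f := fun i =>
    mem_corner.mpr ⟨by rw [← mul_assoc, U.f_idem], by rw [mul_assoc, U.a_f]⟩
  calc spread U c * U.f = spread U c * (U.f * U.f) := by rw [U.f_idem]
    _ = U.f * spread U c * U.f := by rw [← mul_assoc, spread_comm hc U hcomm hcc]
    _ = ∑ i, U.f * U.a i * c * (U.b i * U.f) := by
        rw [spread, Finset.mul_sum, Finset.sum_mul]; simp [mul_assoc]
    _ = ∑ i, c * (U.f * U.a i) * (U.b i * U.f) := by
        refine Finset.sum_congr rfl fun i _ => ?_
        rw [hcomm _ (hfa i) c hcc]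
    _ = c * U.f * (∑ i, U.a i * U.b i) * U.f := by
        rw [Finset.mul_sum, Finset.sum_mul]; simp [mul_assoc]
    _ = c := by
        rw [U.sum_eq, mul_assoc, U.e_f, mul_assoc, U.f_idem, (mem_corner.mp hcc).2]

include hc hcomm in
/-- The corner embeds into the centre of the summand. -/
theorem finrank_corner_le {Z : Submodule k A}
    (hZ : ∀ z : A, e * z = z → (∀ x, z * x = x * z) → z ∈ Z) :
    finrank k (corner k U.f) ≤ finrank k Z := by
  let W : corner k U.f →ₗ[k] Z := LinearMap.codRestrict Z
    ((∑ i, (LinearMap.mulRight k (U.b i)).comp (LinearMap.mulLeft k (U.a i))).comp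
      (corner k U.f).subtype) fun c => by
    have e1 : ((∑ i, (LinearMap.mulRight k (U.b i)).comp (LinearMap.mulLeft k (U.a i))).comp
      (corner k U.f).subtype) c = spread U (c : A) := by simp [spread]
    rw [e1]
    exact hZ _ (e_mul_spread U c) (spread_comm hc U hcomm c.2)
  refine LinearMap.finrank_le_finrank_of_injective (f := W) fun c d h => Subtype.ext ?_
  have h' : spread U (c : A) = spread U (d : A) := by
    simpa [W, spread] using congrArg Subtype.val h
  rw [← spread_mul_f hc U hcomm c.2, h', spread_mul_f hc U hcomm d.2]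

include hc hπe hN hcomm in
/-- A nonzero central element of the summand has a multiple pairing with `s`. -/
theorem exists_mul_ne_zero {lam : A →ₗ[k] k} (hsym : ∀ x y, lam (x * y) = lam (y * x))
    (hnd : ∀ y : A, y ≠ 0 → ∃ x, lam (y * x) ≠ 0) {s : A} (hs : (π s).trace ≠ 0) {z : A}
    (hz : ∀ x, z * x = x * z) (hez : e * z = z) (hz0 : z ≠ 0) :
    ∃ w : A, (∀ x, w * x = x * w) ∧ e * w = w ∧ lam (z * w * s) ≠ 0 := by
  set cs := ∑ i, U.b i * s * U.a i with hcs
  have hcsC : cs ∈ corner k U.f := Submodule.sum_mem _ fun i _ => b_mul_a_mem hc U s i i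
  have hts : (π cs).trace ≠ 0 := by
    have : (π cs).trace = (π s).trace := by
      rw [hcs, map_sum, Matrix.trace_sum]
      calc ∑ i, (π (U.b i * s * U.a i)).trace = ∑ i, (π (U.a i * U.b i) * π s).trace := by
            refine Finset.sum_congr rfl fun i _ => ?_
            rw [map_mul, Matrix.trace_mul_comm, map_mul, map_mul, Matrix.mul_assoc]
        _ = _ := by rw [← Matrix.trace_sum, ← Finset.sum_mul, ← map_sum, U.sum_eq, hπe, one_mul]
    rwa [this]
  have hzf : z * U.f * U.f = z * U.f := by rw [mul_assoc, U.f_idem]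
  have hzf0 : z * U.f ≠ 0 := by
    intro h
    apply hz0
    rw [← hez, hc, ← U.sum_eq, Finset.mul_sum]
    refine Finset.sum_eq_zero fun i _ => ?_
    calc z * (U.a i * U.b i) = U.a i * (z * (U.f * U.b i)) := by
          rw [U.f_b, ← mul_assoc, hz, mul_assoc]
      _ = 0 := by rw [← mul_assoc z, h, zero_mul, mul_zero]
  have hne : z * cs ≠ 0 := by
    intro h
    refine hzf0 (eq_zero_of_mul_eq_zero hc hN U hcsC hts hzf ?_)
    rw [mul_assoc, (mem_corner.mp hcsC).1, h]
  obtain ⟨x, hx⟩ := hnd _ hne
  set c := U.f * x * U.f with hcdef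
  have hcC : c ∈ corner k U.f := mem_corner.mpr ⟨by simp only [c, ← mul_assoc, U.f_idem],
    by simp only [c, mul_assoc, U.f_idem]⟩
  set w := spread U c
  have hw := spread_comm hc U hcomm hcC
  refine ⟨w, hw, e_mul_spread U c, ?_⟩
  have key : lam (z * w * s) = lam (z * w * cs) := by
    calc lam (z * w * s) = ∑ i, lam (U.a i * U.b i * (z * w * s)) := by
          rw [← map_sum, ← Finset.sum_mul, U.sum_eq, ← mul_assoc, ← mul_assoc, hez]
      _ = ∑ i, lam (z * w * (U.b i * s * U.a i)) := by
          refine Finset.sum_congr rfl fun i _ => ?_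
          rw [mul_assoc (U.a i), hsym]
          congr 1
          have hzw : ∀ y, z * w * y = y * (z * w) := fun y => by
            rw [mul_assoc, hw, ← mul_assoc, hz, mul_assoc]
          rw [← mul_assoc (U.b i), ← hzw]
          simp [mul_assoc]
      _ = lam (z * w * cs) := by rw [← map_sum, ← Finset.mul_sum]
  rw [key]
  have h1 : z * w * cs = z * cs * (U.f * x * U.f) := by
    calc z * w * cs = z * (w * U.f * cs) := by
          rw [mul_assoc z, mul_assoc w, (mem_corner.mp hcsC).1]
      _ = _ := by rw [spread_mul_f hc U hcomm hcC, hcomm c hcC cs hcsC, mul_assoc]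
  rw [h1, ← mul_assoc (z * cs), hsym, ← mul_assoc U.f]
  have h2 : U.f * (z * cs) = z * cs := by
    rw [← mul_assoc, ← hz, mul_assoc, (mem_corner.mp hcsC).1]
  have h3 : z * cs * U.f = z * cs := by rw [mul_assoc, (mem_corner.mp hcsC).2]
  rw [h2, ← mul_assoc, h3]
  exact hx

end Cfsg.Agent.Lib.EqualDegree.Corner
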