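import Cfsg.Agent.Lib.BrauerChar.Main
import Cfsg.Agent.Lib.BrauerPairs.RankOne

/-!
# A block whose characters have height zero and one degree

Such a block has one irreducible Brauer character, which is the regular part of every character of
the block, and `p ^ blockDefect` characters.
-/

set_option autoImplicit false
set_option linter.unusedSectionVars false
set_option linter.style.haveILetI false
set_option synthInstance.maxHeartbeats 100000

namespace Cfsg.Agent.Lib.EqualDegree.Rank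

open Cfsg.Agent.Lib Cfsg.Agent.Lib.Blocks Cfsg.Agent.Lib.Blocks.Contrib
open Cfsg.Agent.Lib.Characters.Basic Cfsg.Agent.Lib.BrauerChar
open scoped ComplexConjugate

universe u

attribute [local instance] Ideal.Quotient.field

variable {M : Ideal Cfsg.AlgInt} [M.IsMaximal] {p : ℕ} {G : Type u} [Group G] [Finite G]
  [Fact p.Prime] (hM : Cfsg.IsPModular p M) {B : Set (Cfsg.IrrCharacter G)}
  (hB : Cfsg.IsPBlock M B) {d : ℕ}
  (hd : ∀ χ ∈ B, Cfsg.charDegree (χ : G → ℂ) = d)

include hM hB hd in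
theorem dvd_deg {f : IBr M p G} (hf : InBlock B f) : d ∣ f.deg := by
  have hone : ¬ p ∣ orderOf (1 : G) := by rw [orderOf_one]; exact hM.1.not_dvd_one
  have h : ∀ v ∈ Submodule.span ℤ
      ((fun χ : Cfsg.IrrCharacter G => Cfsg.pRegularPart p (χ : G → ℂ)) '' B),
      ∃ m : ℤ, v 1 = (m : ℂ) * (d : ℂ) := by
    intro v hv
    induction hv using Submodule.span_induction with
    | mem x hx =>
      obtain ⟨χ, hχ, rfl⟩ := hx
      refine ⟨1, ?_⟩
      rw [Int.cast_one, one_mul]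
      show Cfsg.pRegularPart p (χ : G → ℂ) 1 = _
      rw [pRegularPart_apply, if_neg hone, char_one_eq_degree, hd χ hχ]
    | zero => exact ⟨0, by simp⟩
    | add x y _ _ hx hy =>
      obtain ⟨a, ha⟩ := hx
      obtain ⟨b, hb⟩ := hy
      exact ⟨a + b, by rw [Pi.add_apply, ha, hb, Int.cast_add, add_mul]⟩
    | smul a x _ hx =>
      obtain ⟨b, hb⟩ := hx
      exact ⟨a * b, by rw [Pi.smul_apply, hb, zsmul_eq_mul, Int.cast_mul, mul_assoc]⟩
  obtain ⟨m, hm⟩ := h _ (mem_span_int hM hB hf)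
  rw [← f.bchar_rep, bchar_one hM, Fintype.card_fin] at hm
  have hm' : (f.deg : ℤ) = m * (d : ℤ) := by exact_mod_cast hm
  exact Int.natCast_dvd_natCast.mp ⟨m, hm'.trans (mul_comm _ _)⟩

include hM hB hd in
/-- The regular part of each character of the block is an irreducible Brauer character. -/
theorem exists_ibr {χ : Cfsg.IrrCharacter G} (hχ : χ ∈ B) :
    ∃ f : IBr M p G, InBlock B f ∧ f.deg = d ∧ Cfsg.pRegularPart p (χ : G → ℂ) = f.1 ∧
      dnum hM χ f = 1 ∧ ∀ g : IBr M p G, g ≠ f → dnum hM χ g = 0 := by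
  classical
  haveI := finite_ibr (G := G) hM
  haveI := Fintype.ofFinite (IBr M p G)
  have hone : ¬ p ∣ orderOf (1 : G) := by rw [orderOf_one]; exact hM.1.not_dvd_one
  have hdpos : 0 < d := hd χ hχ ▸ BlocksChars5.Basic.degree_pos χ
  have hs : ∑ f : IBr M p G, dnum hM χ f * f.deg = d := by
    have h := congrFun (pRegularPart_eq hM χ) 1
    rw [pRegularPart_apply, if_neg hone, char_one_eq_degree, hd χ hχ, Finset.sum_apply] at h
    simp only [Pi.smul_apply, smul_eq_mul] at h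
    rw [Finset.sum_congr rfl fun f _ => show (dnum hM χ f : ℂ) * f.1 1 =
      ((dnum hM χ f * f.deg : ℕ) : ℂ) by
        rw [← f.bchar_rep, bchar_one hM, Fintype.card_fin]; push_cast; rfl] at h
    exact_mod_cast h.symm
  have hin : ∀ f : IBr M p G, dnum hM χ f ≠ 0 → InBlock B f := fun f h => by
    by_contra hf
    exact h (dnum_eq_zero hM hB fun h' => hf (h'.mp hχ))
  have hge : ∀ f : IBr M p G, dnum hM χ f ≠ 0 → d ≤ f.deg := fun f h =>
    Nat.le_of_dvd f.deg_pos (dvd_deg hM hB hd (hin f h))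
  obtain ⟨f, hf⟩ : ∃ f : IBr M p G, dnum hM χ f ≠ 0 := by
    by_contra hno
    push Not at hno
    simp [hno] at hs
    omega
  have hle : dnum hM χ f * f.deg ≤ d := hs ▸ Finset.single_le_sum
    (f := fun g : IBr M p G => dnum hM χ g * g.deg) (fun _ _ => Nat.zero_le _) (Finset.mem_univ f)
  have h1 : dnum hM χ f = 1 := by
    rcases Nat.lt_or_ge (dnum hM χ f) 2 with h | h
    · omega
    · have := hge f hf
      nlinarith
  have hdeg : f.deg = d := by
    rw [h1, one_mul] at hle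
    exact le_antisymm hle (hge f hf)
  have hz : ∀ g : IBr M p G, g ≠ f → dnum hM χ g = 0 := by
    intro g hg
    by_contra h
    have h2 : dnum hM χ f * f.deg + dnum hM χ g * g.deg ≤ d := by
      rw [← hs, ← Finset.add_sum_erase _ _ (Finset.mem_univ f)]
      exact Nat.add_le_add_left (Finset.single_le_sum
        (f := fun e : IBr M p G => dnum hM χ e * e.deg) (fun _ _ => Nat.zero_le _)
        (Finset.mem_erase.mpr ⟨hg, Finset.mem_univ g⟩)) _
    rw [h1, one_mul, hdeg] at h2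
    have := Nat.mul_pos (Nat.pos_of_ne_zero h) g.deg_pos
    omega
  refine ⟨f, hin f hf, hdeg, ?_, h1, hz⟩
  rw [pRegularPart_eq hM χ, Finset.sum_eq_single f (fun g _ hg => by
    rw [hz g hg, Nat.cast_zero, zero_smul]) (fun h => absurd (Finset.mem_univ f) h), h1,
    Nat.cast_one, one_smul]

variable (h0 : ∀ χ ∈ B, Cfsg.blockHeight p B (χ : G → ℂ) = 0)

include hM hB hd h0 in
/-- All characters of the block have the same regular part. -/
theorem pRegularPart_congr {χ ψ : Cfsg.IrrCharacter G} (hχ : χ ∈ B) (hψ : ψ ∈ B) :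
    Cfsg.pRegularPart p (χ : G → ℂ) = Cfsg.pRegularPart p (ψ : G → ℂ) := by
  classical
  letI := Fintype.ofFinite G
  obtain ⟨f, -, -, hf, hf1, hf0⟩ := exists_ibr hM hB hd hχ
  obtain ⟨g, -, -, hg, hg1, hg0⟩ := exists_ibr hM hB hd hψ
  by_contra hne
  have hfg : f ≠ g := fun e => hne (by rw [hf, hg, e])
  set S := (bset B).filter fun θ : Cfsg.IrrCharacter G => dnum hM θ f ≠ 0 with hS
  have hS1 : ∀ θ ∈ S, dnum hM θ f = 1 ∧ Cfsg.pRegularPart p (θ : G → ℂ) = f.1 := by
    intro θ hθ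
    obtain ⟨hθB, hθf⟩ := Finset.mem_filter.mp hθ
    obtain ⟨e, -, -, he, he1, he0⟩ := exists_ibr hM hB hd (mem_bset.mp hθB)
    have : f = e := by_contra fun h => hθf (he0 f h)
    exact ⟨this ▸ he1, this ▸ he⟩
  have hproj : ∀ x : G, projChar hM B f x = ∑ θ ∈ S, (θ : G → ℂ) x := by
    intro x
    rw [projChar, Finset.sum_apply, hS, Finset.sum_filter]
    refine Finset.sum_congr rfl fun θ hθ => ?_
    simp only [Pi.smul_apply, smul_eq_mul]
    split_ifs with h
    · rw [(hS1 θ (Finset.mem_filter.mpr ⟨hθ, h⟩)).1, Nat.cast_one, one_mul]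
    · rw [not_not.mp h, Nat.cast_zero, zero_mul]
  -- the inner product with `ψ`, computed over all elements and over the regular ones
  have hzero : ∑ x : G, (∑ θ ∈ S, (θ : G → ℂ) x) * conj ((ψ : G → ℂ) x) = 0 := by
    simp only [Finset.sum_mul]
    rw [Finset.sum_comm]
    refine Finset.sum_eq_zero fun θ hθ => ?_
    have hne' : θ ≠ ψ := fun e => (Finset.mem_filter.mp hθ).2 (e ▸ hg0 f hfg)
    have h := classInner_irr_of_ne hne'
    rw [Cfsg.classInner] at h
    exact (mul_eq_zero.mp h).resolve_left (inv_ne_zero (Nat.cast_ne_zero.mpr Nat.card_pos.ne'))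
  have hreg : ∑ x : G, (∑ θ ∈ S, (θ : G → ℂ) x) * conj ((ψ : G → ℂ) x) =
      (S.card : ℂ) * regSum p (χ : G → ℂ) (ψ : G → ℂ) := by
    rw [regSum_eq_sum, Finset.mul_sum]
    refine Finset.sum_congr rfl fun x _ => ?_
    by_cases hx : p ∣ orderOf x
    · rw [if_pos hx, ← hproj, projChar_singular hM hB f hx, zero_mul, mul_zero]
    · rw [if_neg hx, apply_inv (isCharacter_irr ψ), Finset.sum_congr rfl fun θ hθ => ?_,
        Finset.sum_const, nsmul_eq_mul, mul_assoc]
      have := congrFun ((hS1 θ hθ).2.trans hf.symm) x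
      rwa [pRegularPart_apply, pRegularPart_apply, if_neg hx, if_neg hx] at this
  have hcard : (S.card : ℂ) ≠ 0 := Nat.cast_ne_zero.mpr (Finset.card_ne_zero.mpr
    ⟨χ, Finset.mem_filter.mpr ⟨mem_bset.mpr hχ, hf1 ▸ one_ne_zero⟩⟩)
  rw [hzero, eq_comm, mul_eq_zero, regSum_eq_contribN, mul_eq_zero, Nat.cast_eq_zero,
    Int.cast_eq_zero] at hreg
  rcases hreg with h | h | h
  · exact hcard (by rw [h]; simp)
  · exact (primeToCard_pos (G := G) p).ne' (Nat.cast_eq_zero.mp h)
  · exact contribN_ne_zero hM hB hχ ((blockHeight_eq_zero_iff hχ).mp (h0 χ hχ)) hψ h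

include hM hB hd h0 in
/-- The regular rank is one. -/
theorem blockRank_eq_one : Cfsg.blockRank p B = 1 := by
  classical
  obtain ⟨χ₀, hχ₀⟩ := Blocks.isPBlock_nonempty hB
  have himg : (fun χ : Cfsg.IrrCharacter G => Cfsg.pRegularPart p (χ : G → ℂ)) '' B =
      {Cfsg.pRegularPart p (χ₀ : G → ℂ)} := by
    ext v
    constructor
    · rintro ⟨χ, hχ, rfl⟩
      exact pRegularPart_congr hM hB hd h0 hχ hχ₀
    · rintro rfl
      exact ⟨χ₀, hχ₀, rfl⟩
  rw [Cfsg.blockRank, himg]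
  refine finrank_span_singleton fun h => apply_one_ne_zero χ₀ ?_
  have h1 := congrFun h 1
  rwa [pRegularPart_apply, if_neg (by rw [orderOf_one]; exact hM.1.not_dvd_one)] at h1

include hM hB hd h0 in
/-- The number of characters is the order of the defect group. -/
theorem card_eq : Nat.card B = p ^ Cfsg.blockDefect p B := by
  classical
  obtain ⟨g, a, t, hg, hdeg, hval, hsum⟩ :=
    BrauerPairs.RankOne.exists_phi hM hB (blockRank_eq_one hM hB hd h0)
  obtain ⟨χ₀, hχ₀⟩ := Blocks.isPBlock_nonempty hB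
  have hone : ¬ p ∣ orderOf (1 : G) := by rw [orderOf_one]; exact hM.1.not_dvd_one
  have ht : ∀ χ ∈ B, t χ = t χ₀ := fun χ hχ => Nat.eq_of_mul_eq_mul_left hg (by
    rw [← hdeg χ hχ, ← hdeg χ₀ hχ₀, hd χ hχ, hd χ₀ hχ₀])
  have h1 := hval χ₀ hχ₀ 1 hone
  rw [Finset.sum_congr rfl fun ψ hψ => show (a ψ : ℂ) * (ψ : G → ℂ) 1 = (a ψ : ℂ) * (d : ℂ) by
    rw [char_one_eq_degree, hd ψ (mem_bset.mp hψ)], ← Finset.sum_mul, char_one_eq_degree,
    hd χ₀ hχ₀] at h1
  have hd0 : (d : ℂ) ≠ 0 :=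
    Nat.cast_ne_zero.mpr (hd χ₀ hχ₀ ▸ (BlocksChars5.Basic.degree_pos χ₀).ne')
  have h2 : (((t χ₀ : ℤ) * ∑ ψ ∈ bset B, a ψ : ℤ) : ℂ) = ((1 : ℤ) : ℂ) := by
    push_cast
    apply mul_right_cancel₀ hd0
    rw [mul_assoc, ← h1, one_mul]
  have h3 : t χ₀ = 1 :=
    Nat.eq_one_of_dvd_one (Int.natCast_dvd_natCast.mp ⟨_, (Int.cast_injective h2).symm⟩)
  rw [← hsum, Finset.sum_congr rfl fun χ hχ => show t χ ^ 2 = 1 by
    rw [ht χ (mem_bset.mp hχ), h3, one_pow], Finset.sum_const, smul_eq_mul, mul_one, card_bset]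

end Cfsg.Agent.Lib.EqualDegree.Rank
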