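import Cfsg.Agent.Lib.EqualDegree.Corner
import Cfsg.Agent.Lib.EqualDegree.Rank
import Cfsg.Agent.Lib.BrauerPairs.BlockAlgebra
import Cfsg.Agent.Lib.Blocks.HeightZeroValue

/-!
# The truncation at a defect group on the centre of a block algebra

In a block whose characters have height zero and one degree, the truncation at a defect group is
injective on the centre of the block algebra, and that centre has dimension at least the order of
the defect group.
-/

set_option autoImplicit false
set_option linter.unusedSectionVars false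
set_option linter.style.haveILetI false
set_option synthInstance.maxHeartbeats 400000

namespace Cfsg.Agent.Lib.EqualDegree.Inject

open MonoidAlgebra Module
open Cfsg.Agent.Lib Cfsg.Agent.Lib.Characters.Basic
open Cfsg.Agent.Lib.BrauerMap.Basic
open Cfsg.Agent.Lib.BrauerPairs.Bridge Cfsg.Agent.Lib.BrauerPairs.BlockAlgebra
open Cfsg.Agent.Lib.BrauerPairs.CornerAlgebra Cfsg.Agent.Lib.BrauerPairs.Trunc

universe u

attribute [local instance] Ideal.Quotient.field

variable {M : Ideal Cfsg.AlgInt} [M.IsMaximal] {p : ℕ} {G : Type u} [Group G] [Fintype G]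
  [Fact p.Prime] {B : Set (Cfsg.IrrCharacter G)}

/-- The centre of the block algebra. -/
noncomputable def summandCentre (hB : Cfsg.IsPBlock M B) :
    Submodule (Res M) (MonoidAlgebra (Res M) G) :=
  leftFix (Res M) (eBar hB) ⊓ Subalgebra.toSubmodule (Subalgebra.center _ _)

theorem mem_summandCentre {hB : Cfsg.IsPBlock M B} {z : MonoidAlgebra (Res M) G} :
    z ∈ summandCentre hB ↔
      eBar hB * z = z ∧ z ∈ Subalgebra.center (Res M) (MonoidAlgebra (Res M) G) := by
  simp [summandCentre, mem_leftFix]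

/-- The coefficient at the identity, as a functional. -/
noncomputable def coeffOne : MonoidAlgebra (Res M) G →ₗ[Res M] Res M :=
  haveI := Classical.decEq G
  ev fun g => if g = 1 then 1 else 0

theorem coeffOne_apply (x : MonoidAlgebra (Res M) G) : coeffOne x = x.coeff 1 := by
  classical
  induction x using MonoidAlgebra.induction_linear with
  | zero => simp
  | add a b ha hb => rw [map_add, ha, hb, coeff_add, Finsupp.add_apply]
  | single g r =>
    rw [coeffOne, ev_single, coeff_single, Finsupp.single_apply]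
    split_ifs <;> simp

theorem coeffOne_mul_comm (x y : MonoidAlgebra (Res M) G) :
    coeffOne (x * y) = coeffOne (y * x) := by
  classical
  refine ev_mul_comm (fun g h => ?_) x y
  exact if_congr conj_eq_one_iff rfl rfl

theorem coeffOne_mul_single (y : MonoidAlgebra (Res M) G) (g : G) :
    coeffOne (y * single g⁻¹ 1) = y.coeff g := by
  classical
  induction y using MonoidAlgebra.induction_linear with
  | zero => simp
  | add a b ha hb => rw [add_mul, map_add, ha, hb, coeff_add, Finsupp.add_apply]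
  | single c r =>
    rw [single_mul_single, mul_one, coeffOne, ev_single, coeff_single, Finsupp.single_apply]
    by_cases h : c = g
    · simp [h]
    · simp [h, mul_inv_eq_one]

theorem coeffOne_nondeg {y : MonoidAlgebra (Res M) G} (hy : y ≠ 0) :
    ∃ x, coeffOne (y * x) ≠ 0 := by
  by_contra h
  push Not at h
  apply hy
  ext g
  rw [← coeffOne_mul_single, h]
  simp

variable [CharP (Res M) p] (hM : Cfsg.IsPModular p M) (hB : Cfsg.IsPBlock M B) {d : ℕ}
  (hd : ∀ χ ∈ B, Cfsg.charDegree (χ : G → ℂ) = d)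
  (h0 : ∀ χ ∈ B, Cfsg.blockHeight p B (χ : G → ℂ) = 0)

include hM hB hd h0

/-- The block algebra has commutative corner of dimension `Nat.card B`, and its representation
reduces the characters. -/
theorem exists_corner :
    ∃ (n : ℕ) (π : MonoidAlgebra (Res M) G →ₐ[Res M] Matrix (Fin n) (Fin n) (Res M)) (N : ℕ)
      (i₀ : Fin n) (U : BrauerPairs.CornerAlgebra.Units π (eBar hB) i₀),
      π (eBar hB) = 1 ∧ kerPart π (eBar hB) ^ (N + 1) = ⊥ ∧
      (∀ x ∈ corner (Res M) U.f, ∀ y ∈ corner (Res M) U.f, x * y = y * x) ∧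
      finrank (Res M) (corner (Res M) U.f) = Nat.card B ∧
      ∀ s : G, ¬ p ∣ orderOf s → (π (single s 1)).trace = 0 →
        ∀ χ ∈ B, Cfsg.MemLocalIdeal M ((χ : G → ℂ) s) := by
  classical
  have hl := Rank.blockRank_eq_one hM hB hd h0
  obtain ⟨χ₀, hχ₀⟩ := Blocks.isPBlock_nonempty hB
  obtain ⟨f, ⟨ψ, hψ, hcb⟩, hfd, hf, -, -⟩ := Rank.exists_ibr hM hB hd hχ₀
  set e := eBar hB with he
  set π := BrauerChar.alg f.rep with hπdef
  have hπ : Function.Surjective π := f.full
  have hπe : π e = 1 := by
    rw [he, eBar, hπdef, hcb, Blocks.omegaBar_blockIdemBar, if_pos hψ, map_one]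
  have hn : 0 < f.deg := f.deg_pos
  obtain ⟨N, hN⟩ := BrauerPairs.SimpleRep.exists_prod_eq_zero (k := Res M) (eBar_mul_self hB)
    (eBar_comm hB) (S := (kerPart π e : Set (MonoidAlgebra (Res M) G)))
    (fun x hx => (mem_kerPart.mp hx).1) (fun m ρ hρ hρe x hx => by
      rcases Nat.eq_zero_or_pos m with rfl | hm
      · exact Subsingleton.elim _ _
      obtain ⟨y, hy⟩ := hπ (Matrix.single ⟨0, hn⟩ ⟨0, hn⟩ 1)
      refine BrauerPairs.SimpleRep.eq_zero_of_trace fun Y => ?_
      obtain ⟨a, rfl⟩ := hρ Y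
      rw [← map_mul]
      have h := trace_mul_trace hM hB hl hn hm π ρ hπe hρe y (a * x)
      rw [hy, Matrix.trace_single_eq_same, one_mul, map_mul π, (mem_kerPart.mp hx).2, mul_zero,
        Matrix.trace_zero, zero_mul] at h
      exact h)
  rw [Submodule.span_eq] at hN
  obtain ⟨U⟩ := exists_units (eBar_mul_self hB) (eBar_comm hB) hπ hπe hN ⟨0, hn⟩
  have h1 := finrank_leftFix_eq (eBar_mul_self hB) (eBar_comm hB) hπe hN U
  have h2 := finrank_eA hB
  have h2' : ∑ χ ∈ (Set.toFinite B).toFinset, (χ : G → ℂ) 1 ^ 2 =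
      ((Nat.card B * d ^ 2 : ℕ) : ℂ) := by
    rw [Finset.sum_congr rfl (g := fun _ => ((d ^ 2 : ℕ) : ℂ)) fun χ hχ => by
        rw [Blocks.char_one_eq_degree, hd χ ((Set.Finite.mem_toFinset _).mp hχ), Nat.cast_pow],
      Finset.sum_const, nsmul_eq_mul, ← Nat.cast_mul,
      show ((Set.toFinite B).toFinset).card = Nat.card B from Blocks.Contrib.card_bset B]
  rw [h1, h2', Nat.cast_inj] at h2
  have h3 : finrank (Res M) (corner (Res M) U.f) = Nat.card B := by
    generalize finrank (Res M) (corner (Res M) U.f) = kC at h2 ⊢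
    rw [hfd, ← pow_two, mul_comm (Nat.card B)] at h2
    exact Nat.eq_of_mul_eq_mul_left (pow_pos (hfd ▸ hn) 2) h2
  refine ⟨f.deg, π, N, _, U, hπe, hN, fun x hx y hy => Corner.comm_of_finrank (eBar_comm hB) U
    (by rw [finrank_traceForms, h3]) hx hy, h3, fun s hs ht χ hχ => ?_⟩
  rw [hπdef, BrauerChar.alg_single, one_smul] at ht
  have hbc : (BrauerChar.bcharA p f.rep s : ℂ) = (χ : G → ℂ) s := by
    have h := congrFun ((Rank.pRegularPart_congr hM hB hd h0 hχ hχ₀).trans hf) s
    rw [Blocks.Contrib.pRegularPart_apply, if_neg hs, ← f.bchar_rep] at h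
    exact h.symm
  rw [← hbc, Blocks.memLocalIdeal_algInt_iff]
  rw [← Ideal.Quotient.eq_zero_iff_mem, BrauerChar.mk_bcharA hM _ hs, ht]

variable {D : Subgroup G} (hD : Cfsg.IsDefectGroup p M B D)

include hD

/-- The centre of the block algebra has dimension at least the order of the defect group. -/
theorem card_le_finrank : Nat.card D ≤ finrank (Res M) (summandCentre hB) := by
  obtain ⟨n, π, N, i₀, U, hπe, hN, hcomm, hC, -⟩ := exists_corner hM hB hd h0
  rw [Blocks.card_isDefectGroup hM hB hD, ← Rank.card_eq hM hB hd h0, ← hC]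
  refine Corner.finrank_corner_le (eBar_comm hB) U hcomm fun z hz hzc => mem_summandCentre.mpr
    ⟨hz, Subalgebra.mem_center_iff.mpr fun x => (hzc x).symm⟩

/-- The truncation at the defect group is injective on the centre of the block algebra. -/
theorem eq_zero_of_br {z : MonoidAlgebra (Res M) G} (hz : z ∈ summandCentre hB)
    (hbr : br D z = 0) : z = 0 := by
  classical
  by_contra hne
  obtain ⟨n, π, N, i₀, U, hπe, hN, hcomm, -, htr⟩ := exists_corner hM hB hd h0
  obtain ⟨hez, hzc⟩ := mem_summandCentre.mp hz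
  obtain ⟨g, hg, P, hP⟩ := hD
  have hreg := Blocks.not_dvd_orderOf_isDefectClass hM hB hg
  obtain ⟨χ₀, hχ₀⟩ := Blocks.isPBlock_nonempty hB
  have hs : (π (single g 1)).trace ≠ 0 := fun h =>
    Blocks.not_memLocalIdeal_char_defectClass hM hB hg hχ₀ (h0 χ₀ hχ₀) (htr g hreg h χ₀ hχ₀)
  obtain ⟨w, hw, -, hwne⟩ := Corner.exists_mul_ne_zero (eBar_comm hB) hπe hN U hcomm
    coeffOne_mul_comm (fun y hy => coeffOne_nondeg hy) hs
    (fun x => (Subalgebra.mem_center_iff.mp hzc x).symm) hez hne
  rw [show single g (1 : Res M) = single (g⁻¹)⁻¹ 1 by rw [inv_inv], coeffOne_mul_single] at hwne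
  have hgC : g⁻¹ ∈ Subgroup.centralizer (D : Set G) := inv_mem fun q hq =>
    Subgroup.mem_centralizer_singleton_iff.mp (Subgroup.map_subtype_le _ (hP ▸ hq))
  have hwc : w ∈ Subalgebra.center (Res M) (MonoidAlgebra (Res M) G) :=
    Subalgebra.mem_center_iff.mpr fun x => (hw x).symm
  have hDp : IsPGroup p D := hP ▸ P.2.map _
  have h := congrArg (fun a => a.coeff (⟨g⁻¹, hgC⟩ : Subgroup.centralizer (D : Set G)))
    (br_mul (k := Res M) hDp (isFixedBy_of_mem_center D hzc) (isFixedBy_of_mem_center D hwc))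
  simp only [coeff_br, hbr, zero_mul] at h
  exact hwne (h.trans (by simp))

end Cfsg.Agent.Lib.EqualDegree.Inject
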