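import Cfsg.Agent.Lib.StarChar.Nilpotent
import Cfsg.Agent.Lib.BrauerPairs.Abelian
import Cfsg.Agent.Lib.BrauerPairs.RankAbelian
import Cfsg.Agent.Lib.BrauerPairs.BlockAlgebra
import Cfsg.Agent.Lib.EqualDegree.Inject

/-!
# The block of a maximal pair at the centralizer of its subgroup

Its pairs lie inside the subgroup, so it is nilpotent with central defect group: it has regular
rank one and at most as many characters as the subgroup has elements. If the subgroup is abelian
the centre of its block algebra is spanned by the translates of the block idempotent.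
-/

set_option autoImplicit false
set_option linter.unusedSectionVars false
set_option linter.style.haveILetI false
set_option synthInstance.maxHeartbeats 400000

namespace Cfsg.Agent.Lib.EqualDegree.Local

open MonoidAlgebra Module
open Cfsg.Agent.Lib Cfsg.Agent.Lib.BrauerMap.Basic
open Cfsg.Agent.Lib.BrauerPairs.Center Cfsg.Agent.Lib.BrauerPairs.Trunc
open Cfsg.Agent.Lib.BrauerPairs.Conj Cfsg.Agent.Lib.BrauerPairs.Pairs
open Cfsg.Agent.Lib.BrauerPairs.Transport Cfsg.Agent.Lib.BrauerPairs.Maximal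
open Cfsg.Agent.Lib.BrauerPairs.Bridge Cfsg.Agent.Lib.BrauerPairs.Local
open Cfsg.Agent.Lib.BrauerPairs.Extend Cfsg.Agent.Lib.BrauerPairs.Embed
open Cfsg.Agent.Lib.BrauerPairs.Fusion Cfsg.Agent.Lib.StarChar
open Cfsg.Agent.Lib.Blocks.Contrib Cfsg.Agent.Lib.Characters.Basic
open Cfsg.Agent.Lib.StarChar.Comp Cfsg.Agent.Lib.StarChar.NilpotentPairing
open Cfsg.Agent.Lib.BrauerPairs.BlockAlgebra Cfsg.Agent.Lib.BrauerPairs.CornerAlgebra

universe u

attribute [local instance] Ideal.Quotient.field

variable {M : Ideal Cfsg.AlgInt} [M.IsMaximal] {G : Type u} [Group G] [Fintype G]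
  {p : ℕ} [Fact p.Prime] [CharP (Res M) p]

local notation "C[" P "]" => Subgroup.centralizer ((P : Subgroup G) : Set G)

variable {a : Idx (Res M) G}

/-- The pairs of the block at the centralizer lie inside the subgroup of the maximal pair. -/
theorem pair_le (ha : Top p a) {c : Idx (Res M) C[a.1]}
    (hc : PairOf p (a.2 : Blk (Res M) C[a.1]) c) : c.1 ≤ a.1.subgroupOf C[a.1] := by
  obtain ⟨S, ν⟩ := c
  have S0 := setup_centralizer (a := a) ha.1
  obtain ⟨R, hR, rfl⟩ : ∃ R : Subgroup G, R ≤ C[a.1] ∧ R.subgroupOf C[a.1] = S :=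
    ⟨S.map (C[a.1]).subtype, Subgroup.map_subtype_le S,
      Subgroup.comap_map_eq_self_of_injective (C[a.1]).subtype_injective S⟩
  have hRp : IsPGroup p R := hc.1.of_equiv (Subgroup.subgroupOfEquivOfLe hR)
  have hg : C[a.1] ⊓ C[R] ≤ C[a.1] := inf_le_left
  rw [← dn_lift hR (S0.hC hg) ν] at hc
  have hstep := (S0.pairOf_dn_iff hRp hR hg _).mp hc
  have h : a.1 ⊔ R = a.1 :=
    ha.2 (⟨a.1 ⊔ R, lift hR (S0.hC hg) ν⟩ : Idx (Res M) G) hstep
  intro x hx
  exact Subgroup.mem_subgroupOf.mpr (h.le (Subgroup.mem_sup_right hx))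

/-- The block at the centralizer is nilpotent. -/
theorem nilp (ha : Top p a) : Nilp p (a.2 : Blk (Res M) C[a.1]) := by
  intro c hc x _ _
  exact Subgroup.mem_centralizer_iff.mpr fun y hy =>
    Subtype.ext (Subgroup.mem_centralizer_iff.mp x.2 y (Subgroup.mem_subgroupOf.mp
      (pair_le ha hc hy)))

variable (hM : Cfsg.IsPModular p M)
include hM

/-- The block at the centralizer has regular rank one. -/
theorem blockRank_eq_one (ha : Top p a) : Cfsg.blockRank p (toSet (a.2 : Blk (Res M) C[a.1])) = 1 ∧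
    Nat.card (toSet (a.2 : Blk (Res M) C[a.1])) ≤ Nat.card a.1 := by
  classical
  haveI := Fintype.ofFinite C[a.1]
  set B := toSet (a.2 : Blk (Res M) C[a.1]) with hBdef
  have hB : Cfsg.IsPBlock M B := isPBlock_toSet _
  have hblk : blk hB = a.2 := blk_toSet _ _
  obtain ⟨χ₀, hχ₀, h0⟩ := exists_height_zero (p := p) hB
  obtain ⟨P, hP⟩ := exists_isDef (p := p) (blk hB)
  obtain ⟨ω, hω⟩ := exists_pairOf_isDef hP
  have hb : Top p (⟨P, ω⟩ : Idx (Res M) C[a.1]) := top_of_isDef hω hP
  have hn : Nilp p (blk hB) := by rw [hblk]; exact nilp ha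
  obtain ⟨Φ, hΦ⟩ := Nilpotent.exists_equiv hM hb hω hn hχ₀ h0
  refine ⟨?_, ?_⟩
  · have himg : ∀ χ ∈ B, Cfsg.pRegularPart p (χ : C[a.1] → ℂ) ∈
        Submodule.span ℂ {Cfsg.pRegularPart p (χ₀ : C[a.1] → ℂ)} := by
      intro χ hχ
      obtain ⟨ζ, hζ⟩ := Φ.surjective ⟨χ, hχ⟩
      refine Submodule.mem_span_singleton.mpr ⟨(ζ : P → ℂ) 1, funext fun g => ?_⟩
      have h1 : (χ : C[a.1] → ℂ) = starFn χ₀ (fz p ⟨P, ω⟩ (ζ : P → ℂ)) p := by
        rw [← hΦ ζ, hζ]
      rw [Pi.smul_apply, smul_eq_mul, pRegularPart_apply, pRegularPart_apply]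
      by_cases hg : p ∣ orderOf g
      · simp [hg]
      · rw [if_neg hg, if_neg hg, h1, Nilpotent.star_regular χ₀ _ hg]
    refine le_antisymm ?_ (BrauerPairs.RankAbelian.one_le_blockRank hM hB)
    rw [Cfsg.blockRank]
    refine le_trans (Submodule.finrank_mono (Submodule.span_le.mpr ?_))
      (le_of_eq_of_le (finrank_span_singleton (v := Cfsg.pRegularPart p (χ₀ : C[a.1] → ℂ)) ?_) le_rfl)
    · rintro _ ⟨χ, hχ, rfl⟩
      exact himg χ hχ
    · intro h
      refine apply_one_ne_zero χ₀ ?_
      have := congrFun h 1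
      rwa [pRegularPart_apply, if_neg (by rw [orderOf_one]; exact hM.1.not_dvd_one)] at this
  · rw [← Nat.card_congr Φ]
    haveI := Fintype.ofFinite P
    rw [Characters.Complete.card_irr_eq_card_conjClasses]
    refine (Nat.card_le_card_of_surjective _ ConjClasses.mk_surjective).trans ?_
    refine (Subgroup.card_le_of_le (pair_le ha (c := ⟨P, ω⟩) (by rw [← hblk]; exact hω))).trans ?_
    exact Nat.card_le_card_of_injective
      (fun u : a.1.subgroupOf C[a.1] => (⟨((u : C[a.1]) : G), Subgroup.mem_subgroupOf.mp u.2⟩ : a.1))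
      fun u v h => Subtype.ext (Subtype.ext (by simpa using h))

/-- The idempotent of a block vanishes on the singular elements. -/
theorem coeff_singular (ψ : Blk (Res M) G) {g : G} (hg : p ∣ orderOf g) :
    (bidem ψ).coeff g = 0 := by
  rw [← blk_toSet ψ (isPBlock_toSet ψ)]
  by_contra h
  rw [← Ne, coeff_bidem_ne_zero_iff] at h
  refine h ?_
  rw [Blocks.blockCoeff_eq_zero_of_dvd hM (isPBlock_toSet ψ) hg]
  exact Blocks.memLocalIdeal_zero

/-- Some regular element carries a coefficient of the idempotent. -/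
theorem exists_regular_coeff (ψ : Blk (Res M) G) :
    ∃ g : G, ¬ p ∣ orderOf g ∧ (bidem ψ).coeff g ≠ 0 := by
  by_contra h
  push Not at h
  have hz : bidem ψ = 0 := by
    ext g
    by_cases hg : p ∣ orderOf g
    · rw [coeff_singular hM ψ hg]; simp
    · rw [h g hg]; simp
  exact idem_ne_zero ψ (Subtype.ext hz)

/-- A regular element times a commuting `p`-element is regular only trivially. -/
theorem eq_one_of_regular {H : Type*} [Group H] [Finite H] {g w : H} (hc : Commute g w)
    (hw : ∃ j : ℕ, orderOf w = p ^ j) (hg : ¬ p ∣ orderOf g) (hgw : ¬ p ∣ orderOf (g * w)) :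
    w = 1 := by
  obtain ⟨j, hj⟩ := hw
  rcases j with _ | j
  · rwa [pow_zero, orderOf_eq_one_iff] at hj
  · exfalso
    apply hgw
    rw [hc.orderOf_mul_eq_mul_orderOf_of_coprime (by
      rw [hj]; exact ((Fact.out : p.Prime).coprime_iff_not_dvd.mpr hg).symm.pow_right _), hj]
    exact Dvd.dvd.mul_left (dvd_pow_self p j.succ_ne_zero) _

variable (hab : ∀ x ∈ a.1, ∀ y ∈ a.1, x * y = y * x)

/-- The inclusion of an abelian subgroup into its centralizer. -/
def incl (u : a.1) : C[a.1] := ⟨(u : G), fun q hq => hab q hq u u.2⟩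

/-- The translates of the block idempotent. -/
noncomputable def tr (u : a.1) : MonoidAlgebra (Res M) C[a.1] :=
  bidem (a.2 : Blk (Res M) C[a.1]) * single (incl hab u) 1

omit hM in
theorem coeff_tr (u : a.1) (h : C[a.1]) :
    (tr hab u).coeff h = (bidem (a.2 : Blk (Res M) C[a.1])).coeff (h * (incl hab u)⁻¹) := by
  rw [tr, MonoidAlgebra.mul_single_apply, mul_one]

theorem commute_incl (u : a.1) (h : C[a.1]) : Commute h (incl hab u) :=
  Subtype.ext (Subgroup.mem_centralizer_iff.mp h.2 u u.2).symm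

/-- Reading off a coordinate at a regular element. -/
theorem coeff_sum_tr (ha : Top p a) {g : C[a.1]} (hg : ¬ p ∣ orderOf g) (c : a.1 → Res M)
    [Fintype a.1] (u : a.1) :
    (∑ v, c v • tr hab v).coeff (g * incl hab u) =
      c u * (bidem (a.2 : Blk (Res M) C[a.1])).coeff g := by
  classical
  haveI := Fintype.ofFinite C[a.1]
  rw [coeff_sum, Finsupp.finsetSum_apply, Finset.sum_eq_single u]
  · rw [coeff_smul_apply, coeff_tr, mul_inv_cancel_right, smul_eq_mul]
  · intro v _ hv
    rw [coeff_smul_apply, coeff_tr]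
    by_cases hr : p ∣ orderOf (g * incl hab u * (incl hab v)⁻¹)
    · rw [coeff_singular hM _ hr, smul_zero]
    · exfalso
      apply hv
      obtain ⟨j, hj⟩ := IsPGroup.iff_orderOf.mp ha.1 (u * v⁻¹)
      have e : incl hab u * (incl hab v)⁻¹ = incl hab (u * v⁻¹) := Subtype.ext rfl
      have ho : orderOf (incl hab (u * v⁻¹)) = p ^ j := by
        rw [← hj, ← Subgroup.orderOf_coe, ← Subgroup.orderOf_coe (u * v⁻¹)]
        rfl
      rw [mul_assoc, e] at hr
      have h1 := congrArg (fun w : C[a.1] => (w : G))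
        (eq_one_of_regular hM (commute_incl hM hab _ g) ⟨j, ho⟩ hg hr)
      exact (mul_inv_eq_one.mp (Subtype.ext (by simpa [incl] using h1) : u * v⁻¹ = 1)).symm
  · exact fun h => absurd (Finset.mem_univ _) h

theorem linearIndependent_tr (ha : Top p a) : LinearIndependent (Res M) (tr (M := M) hab) := by
  classical
  haveI := Fintype.ofFinite C[a.1]
  haveI := Fintype.ofFinite a.1
  obtain ⟨g, hg, hg0⟩ := exists_regular_coeff hM (a.2 : Blk (Res M) C[a.1])
  rw [Fintype.linearIndependent_iff]
  intro c hc u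
  have h := coeff_sum_tr hM hab ha hg c u
  rw [hc] at h
  simpa [hg0] using h.symm

/-- The centre of the block algebra at the centralizer is spanned by the translates of the block
idempotent. -/
theorem mem_span_tr (ha : Top p a) {y : MonoidAlgebra (Res M) C[a.1]}
    (hy : y ∈ Subalgebra.center (Res M) (MonoidAlgebra (Res M) C[a.1]))
    (hey : bidem (a.2 : Blk (Res M) C[a.1]) * y = y) :
    y ∈ Submodule.span (Res M) (Set.range (tr (M := M) hab)) := by
  classical
  haveI := Fintype.ofFinite C[a.1]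
  haveI := Fintype.ofFinite a.1
  set B := toSet (a.2 : Blk (Res M) C[a.1]) with hBdef
  have hB : Cfsg.IsPBlock M B := isPBlock_toSet _
  have he : eBar hB = bidem (a.2 : Blk (Res M) C[a.1]) := by
    rw [eBar, ← idem_eq_blockIdemBar hB, blk_toSet]
    rfl
  let Z := Inject.summandCentre hB
  have hmemZ : ∀ {z : MonoidAlgebra (Res M) C[a.1]}, z ∈ Z ↔
      bidem (a.2 : Blk (Res M) C[a.1]) * z = z ∧
        z ∈ Subalgebra.center (Res M) (MonoidAlgebra (Res M) C[a.1]) := fun {z} => by
    rw [← he]; exact Inject.mem_summandCentre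
  let L : Z →ₗ[Res M] traceForms (Res M) (eBar hB) := LinearMap.codRestrict _
    ((LinearMap.llcomp (Res M) _ _ _ Inject.coeffOne).comp
      ((LinearMap.mul (Res M) _).comp Z.subtype)) fun z => by
    obtain ⟨h1, h2⟩ := hmemZ.mp z.2
    refine mem_traceForms.mpr ⟨fun x => ?_, fun x x' => ?_⟩
    · show Inject.coeffOne ((z : MonoidAlgebra (Res M) C[a.1]) * (eBar hB * x)) =
        Inject.coeffOne ((z : MonoidAlgebra (Res M) C[a.1]) * x)
      rw [← mul_assoc, ← eBar_comm hB, he, h1]
    · show Inject.coeffOne ((z : MonoidAlgebra (Res M) C[a.1]) * (x * x')) =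
        Inject.coeffOne ((z : MonoidAlgebra (Res M) C[a.1]) * (x' * x))
      rw [← mul_assoc, Inject.coeffOne_mul_comm, ← mul_assoc,
        (Subalgebra.mem_center_iff.mp h2 x'), mul_assoc]
  have hL : Function.Injective L := by
    rw [injective_iff_map_eq_zero]
    intro z hz
    apply Subtype.ext
    by_contra hne
    obtain ⟨x, hx⟩ := Inject.coeffOne_nondeg hne
    exact hx (LinearMap.congr_fun (congrArg Subtype.val hz) x)
  have hdim : finrank (Res M) Z ≤ Nat.card a.1 := by
    refine (LinearMap.finrank_le_finrank_of_injective hL).trans ?_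
    rw [finrank_traceForms]
    exact (blockRank_eq_one hM ha).2
  have hle : Submodule.span (Res M) (Set.range (tr (M := M) hab)) ≤ Z := by
    rw [Submodule.span_le]
    rintro _ ⟨u, rfl⟩
    refine hmemZ.mpr ⟨by rw [tr, ← mul_assoc, (bidem_isIdem _).eq], ?_⟩
    refine Subalgebra.mul_mem _ (bidem_mem _) ?_
    rw [Subalgebra.mem_center_iff]
    intro x
    induction x using MonoidAlgebra.induction_linear with
    | zero => simp
    | add f g hf hg => rw [add_mul, mul_add, hf, hg]
    | single c r =>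
      rw [single_mul_single, single_mul_single, mul_one, one_mul, (commute_incl hM hab u c).eq]
  have hspan : finrank (Res M) (Submodule.span (Res M) (Set.range (tr (M := M) hab))) =
      Nat.card a.1 := by
    rw [finrank_span_eq_card (linearIndependent_tr hM hab ha), Nat.card_eq_fintype_card]
  rw [Submodule.eq_of_le_of_finrank_le hle (hspan ▸ hdim)]
  exact hmemZ.mpr ⟨hey, hy⟩

end Cfsg.Agent.Lib.EqualDegree.Local
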