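import Cfsg.Agent.Lib.EqualDegree.Local

/-!
# Abelian defect groups: one degree forces nilpotency

If all characters of a block with abelian defect group have height zero and the same degree, the
block is nilpotent.
-/

set_option autoImplicit false
set_option linter.unusedSectionVars false
set_option linter.style.haveILetI false
set_option synthInstance.maxHeartbeats 400000

namespace Cfsg.Agent.Lib.EqualDegree.Main

open MonoidAlgebra Module
open Cfsg.Agent.Lib Cfsg.Agent.Lib.BrauerMap.Basic
open Cfsg.Agent.Lib.BrauerPairs.Center Cfsg.Agent.Lib.BrauerPairs.Trunc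
open Cfsg.Agent.Lib.BrauerPairs.Conj Cfsg.Agent.Lib.BrauerPairs.Pairs
open Cfsg.Agent.Lib.BrauerPairs.Transport Cfsg.Agent.Lib.BrauerPairs.Maximal
open Cfsg.Agent.Lib.BrauerPairs.Bridge Cfsg.Agent.Lib.BrauerPairs.Local
open Cfsg.Agent.Lib.BrauerPairs.Fusion
open Cfsg.Agent.Lib.BrauerPairs.BlockAlgebra

universe u

attribute [local instance] Ideal.Quotient.field

variable {M : Ideal Cfsg.AlgInt} [M.IsMaximal] {G : Type u} [Group G] [Fintype G]
  {p : ℕ} [Fact p.Prime] [CharP (Res M) p]

local notation "C[" P "]" => Subgroup.centralizer ((P : Subgroup G) : Set G)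

variable {a : Idx (Res M) G} {B : Set (Cfsg.IrrCharacter G)} (hB : Cfsg.IsPBlock M B)

/-- Truncations of central elements are fixed by the normalizer. -/
theorem conjA_ext_br {z : MonoidAlgebra (Res M) G}
    (hz : z ∈ Subalgebra.center (Res M) (MonoidAlgebra (Res M) G)) {x : G} {D : Subgroup G}
    (hx : x ∈ Subgroup.normalizer (D : Set G)) :
    conjA x (ext C[D] (br D z)) = ext C[D] (br D z) := by
  ext g
  rw [coeff_conjA]
  have hm : x⁻¹ * g * x ∈ C[D] ↔ g ∈ C[D] := by
    have h := mem_centralizer_conj_iff (Q := D) hx (x⁻¹ * g * x)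
    simpa [mul_assoc] using h
  have hc := (mem_center_iff_coeff z).1 hz x⁻¹ g
  rw [inv_inv] at hc
  by_cases hg : g ∈ C[D]
  · rw [show (ext C[D] (br D z)).coeff (x⁻¹ * g * x) = z.coeff (x⁻¹ * g * x) from
      (coeff_ext _ (br D z) ⟨_, hm.mpr hg⟩).trans (coeff_br _ _ _),
      show (ext C[D] (br D z)).coeff g = z.coeff g from
      (coeff_ext _ (br D z) ⟨g, hg⟩).trans (coeff_br _ _ _), hc]
  · rw [coeff_ext_of_notMem _ _ hg, coeff_ext_of_notMem _ _ (hm.not.mpr hg)]

/-- An element of the summand centre whose truncation is killed by the block of a maximal pair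
has truncation zero. -/
theorem br_eq_zero {z : MonoidAlgebra (Res M) G} (hz : z ∈ Inject.summandCentre hB)
    (ha : Top p a) (hψ : PairOf p (blk hB) a)
    (h : br a.1 z * bidem (a.2 : Blk (Res M) C[a.1]) = 0) : br a.1 z = 0 := by
  classical
  haveI := Fintype.ofFinite (Blk (Res M) C[a.1])
  obtain ⟨hez, hzc⟩ := Inject.mem_summandCentre.mp hz
  set D := a.1 with hDdef
  have he : eBar hB = bidem (blk hB) := by
    rw [eBar, ← idem_eq_blockIdemBar hB]
    rfl
  have hez' : br D z = br D z * br D (bidem (blk hB)) := by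
    rw [← br_mul (k := Res M) ha.1 (isFixedBy_of_mem_center D hzc)
      (isFixedBy_of_mem_center D (bidem_mem _)), ← he, ← eBar_comm hB, hez]
  calc br D z = br D z * ∑ ν : Blk (Res M) C[D], bidem ν := by rw [sum_bidem, mul_one]
    _ = 0 := by
      rw [Finset.mul_sum]
      refine Finset.sum_eq_zero fun ν _ => ?_
      by_cases hν : PairOf p (blk hB) (⟨D, ν⟩ : Idx (Res M) G)
      · obtain ⟨x, hx, hxe⟩ := (top_key ha hψ).2 ν hν
        apply ext_injective C[D]
        rw [map_zero, map_mul, ← conjA_ext_br hzc hx]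
        have hb : ext C[D] (bidem ν) = conjA x (bext C[a.1] a.2) := by
          rw [← bext_cPair, hxe]
          rfl
        rw [hb, bext, ← map_mul, ← map_mul, h, map_zero, map_zero]
      · rw [hez', mul_assoc]
        suffices br D (bidem (blk hB)) * bidem ν = 0 by rw [this, mul_zero]
        have hC : IsFixedBy C[D] (bidem (blk hB)) := isFixedBy_of_mem_center _ (bidem_mem _)
        set y : ZAlg (Res M) C[D] := ⟨br D (bidem (blk hB)), br_mem_center hC⟩
        have hy : IsIdempotentElem y := Subtype.ext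
          (br_isIdem ha.1 (bidem_isIdem _) (isFixedBy_of_mem_center _ (bidem_mem _)))
        have h0 : ν y = 0 := (apply_zero_or_one hy ν).resolve_right fun h1 =>
          hν ⟨ha.1, (val_eq ν hC).trans h1⟩
        have h1 : y * idem ν = 0 := idem_ext (k := Res M) (hy.mul (idem_isIdem ν)) .zero fun φ => by
          rw [map_mul, map_zero]
          by_cases hφ : φ = ν
          · rw [hφ, h0, zero_mul]
          · rw [apply_idem_ne hφ, mul_zero]
        exact congrArg Subtype.val h1

variable (hM : Cfsg.IsPModular p M) {d : ℕ}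
  (hd : ∀ χ ∈ B, Cfsg.charDegree (χ : G → ℂ) = d)
  (h0 : ∀ χ ∈ B, Cfsg.blockHeight p B (χ : G → ℂ) = 0)

include hM hd h0

/-- The stabilizer of a maximal pair centralizes its subgroup. -/
theorem mem_centralizer_of_mem_stab (ha : Top p a) (hψ : PairOf p (blk hB) a)
    (hab : ∀ x ∈ a.1, ∀ y ∈ a.1, x * y = y * x) {x : G} (hx : x ∈ stab a) : x ∈ C[a.1] := by
  classical
  haveI := Fintype.ofFinite a.1
  obtain ⟨hxN, hxfix⟩ := mem_stab_iff.mp hx
  rw [Subgroup.mem_centralizer_iff]
  by_contra hcon
  push Not at hcon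
  obtain ⟨u₀, hu₀, hmove⟩ := hcon
  have hD : Cfsg.IsDefectGroup p M B a.1 :=
    (isDefectGroup_iff hB _).mpr (isDef_of_top ha hψ)
  haveI := Fintype.ofFinite C[a.1]
  set ε := bidem (a.2 : Blk (Res M) C[a.1]) with hε
  obtain ⟨g, hg, hg0⟩ := Local.exists_regular_coeff hM (a.2 : Blk (Res M) C[a.1])
  rw [← hε] at hg0
  let cj : a.1 → a.1 := fun u => ⟨x * u * x⁻¹, (Subgroup.mem_normalizer_iff.mp hxN u).mp u.2⟩
  let xg : C[a.1] := ⟨x * g * x⁻¹, (mem_centralizer_conj_iff hxN g).mp g.2⟩
  have hxg : ¬ p ∣ orderOf xg := by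
    rw [← Subgroup.orderOf_coe, show ((xg : C[a.1]) : G) = MulAut.conj x (g : G) from rfl,
      (MulAut.conj x).orderOf_eq, Subgroup.orderOf_coe]
    exact hg
  have hεx : ε.coeff xg = ε.coeff g := by
    have h1 := congrArg (fun w => w.coeff ((xg : C[a.1]) : G)) hxfix
    simp only [bext, coeff_conjA] at h1
    rw [show x⁻¹ * ((xg : C[a.1]) : G) * x = ((g : C[a.1]) : G) by simp [xg, mul_assoc],
      coeff_ext, coeff_ext] at h1
    exact h1.symm
  -- the coordinates of the truncation
  let Γ : Inject.summandCentre hB →ₗ[Res M] (a.1 → Res M) :=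
    { toFun := fun z u => (br a.1 (z : MonoidAlgebra (Res M) G) * ε).coeff (g * Local.incl hab u)
      map_add' := fun z z' => funext fun u => by
        show (br a.1 ((z : MonoidAlgebra (Res M) G) + (z' : MonoidAlgebra (Res M) G)) * ε).coeff _ = _
        rw [br_add, add_mul, coeff_add, Finsupp.add_apply]
        rfl
      map_smul' := fun r z => funext fun u => by
        show (br a.1 (r • (z : MonoidAlgebra (Res M) G)) * ε).coeff _ = _
        rw [show br a.1 (r • (z : MonoidAlgebra (Res M) G)) = r • br a.1 (z : MonoidAlgebra (Res M) G)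
          from brauerTo_smul _ _ _ _, smul_mul_assoc, coeff_smul_apply]
        rfl }
  have hcoord : ∀ z : Inject.summandCentre hB, ∃ c : a.1 → Res M,
      br a.1 (z : MonoidAlgebra (Res M) G) * ε = ∑ v, c v • Local.tr hab v := by
    intro z
    obtain ⟨-, hzc⟩ := Inject.mem_summandCentre.mp z.2
    have hb := br_mem_center (isFixedBy_of_mem_center C[a.1] hzc)
    obtain ⟨c, hc⟩ := (Submodule.mem_span_range_iff_exists_fun (Res M)).mp
      (Local.mem_span_tr hM hab ha (Subalgebra.mul_mem _ hb (bidem_mem _))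
        (by rw [← mul_assoc, Subalgebra.mem_center_iff.mp hb, mul_assoc, (bidem_isIdem _).eq]))
    exact ⟨c, hc.symm⟩
  have hinj : Function.Injective Γ := by
    rw [injective_iff_map_eq_zero]
    intro z hz
    apply Subtype.ext
    refine Inject.eq_zero_of_br hM hB hd h0 hD z.2 (br_eq_zero hB z.2 ha hψ ?_)
    obtain ⟨c, hc⟩ := hcoord z
    rw [← hε, hc]
    refine Finset.sum_eq_zero fun u _ => ?_
    have h1 : (∑ v, c v • Local.tr hab v).coeff (g * Local.incl hab u) = 0 := by
      rw [← hc]; exact congrFun hz u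
    rw [Local.coeff_sum_tr hM hab ha hg c u, mul_eq_zero, or_iff_left hg0] at h1
    rw [h1]; exact zero_smul (Res M) (Local.tr (M := M) hab u)
  have hinv : ∀ (z : Inject.summandCentre hB) (u : a.1), Γ z (cj u) = Γ z u := by
    intro z u
    obtain ⟨-, hzc⟩ := Inject.mem_summandCentre.mp z.2
    obtain ⟨c, hc⟩ := hcoord z
    have e1 : (br a.1 (z : MonoidAlgebra (Res M) G) * ε).coeff (xg * Local.incl hab (cj u)) =
        (br a.1 (z : MonoidAlgebra (Res M) G) * ε).coeff (g * Local.incl hab u) := by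
      have h1 : conjA x (ext C[a.1] (br a.1 (z : MonoidAlgebra (Res M) G) * ε)) =
          ext C[a.1] (br a.1 (z : MonoidAlgebra (Res M) G) * ε) := by
        rw [map_mul, map_mul, conjA_ext_br hzc hxN]
        exact congrArg _ hxfix
      have h2 := congrArg (fun w => w.coeff ((xg * Local.incl hab (cj u) : C[a.1]) : G)) h1
      simp only [coeff_conjA] at h2
      rw [show x⁻¹ * ((xg * Local.incl hab (cj u) : C[a.1]) : G) * x =
          ((g * Local.incl hab u : C[a.1]) : G) by simp [xg, cj, Local.incl, mul_assoc],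
        coeff_ext, coeff_ext] at h2
      exact h2.symm
    rw [hc, Local.coeff_sum_tr hM hab ha hxg, Local.coeff_sum_tr hM hab ha hg, ← hε, hεx] at e1
    show (br a.1 (z : MonoidAlgebra (Res M) G) * ε).coeff (g * Local.incl hab (cj u)) =
      (br a.1 (z : MonoidAlgebra (Res M) G) * ε).coeff (g * Local.incl hab u)
    rw [hc, Local.coeff_sum_tr hM hab ha hg, Local.coeff_sum_tr hM hab ha hg, ← hε, e1]
  -- the coordinates lie in a proper subspace
  let u : a.1 := ⟨u₀, hu₀⟩
  have hne : cj u ≠ u := fun h => hmove (by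
    have := congrArg (fun v : a.1 => (v : G) * x) h
    simpa [cj, u, mul_assoc] using this.symm)
  let δ : (a.1 → Res M) →ₗ[Res M] Res M := (LinearMap.proj (R := Res M) (φ := fun _ : a.1 => Res M) (cj u)) - LinearMap.proj (R := Res M) (φ := fun _ : a.1 => Res M) u
  have hrange : LinearMap.range Γ ≤ LinearMap.ker δ := by
    rintro _ ⟨z, rfl⟩
    simp [δ, hinv z u]
  have hlt : finrank (Res M) (LinearMap.ker δ) < Nat.card a.1 := by
    rw [Nat.card_eq_fintype_card, ← finrank_fintype_fun_eq_card (R := Res M) (η := a.1)]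
    refine Submodule.finrank_lt fun h => ?_
    have h1 : Pi.single u (1 : Res M) ∈ LinearMap.ker δ := h ▸ Submodule.mem_top
    simp [δ, hne] at h1
  have h1 := Inject.card_le_finrank hM hB hd h0 hD
  rw [← LinearMap.finrank_range_of_inj hinj] at h1
  exact absurd (h1.trans (Submodule.finrank_mono hrange)) (not_le.mpr hlt)

/-- **One degree forces nilpotency.** -/
theorem nilp_of_degree {D : Subgroup G} (hD : IsDef p (blk hB) D)
    (hab : ∀ x ∈ D, ∀ y ∈ D, x * y = y * x) : Nilp p (blk hB) := by
  obtain ⟨ω, hω⟩ := exists_pairOf_isDef hD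
  have hb : Top p (⟨D, ω⟩ : Idx (Res M) G) := top_of_isDef hω hD
  exact BrauerPairs.Abelian.nilp_of_stab_le hb hω hab fun x hx =>
    mem_centralizer_of_mem_stab hB hM hd h0 hb hω hab hx

end Cfsg.Agent.Lib.EqualDegree.Main
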