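import Cfsg.Agent.Lib.BrauerPairs.Fusion
import Cfsg.Agent.Lib.BrauerPairs.Inertial

/-!
# Nilpotency with normal defect group

If the subgroup of a maximal pair is normal in the group and the regular elements of the
stabilizer of the pair centralize it, the block is nilpotent.
-/

set_option autoImplicit false
set_option linter.style.haveILetI false

namespace Cfsg.Agent.Lib.EqualDegree.NormalNilp

open Cfsg.Agent.Lib.BrauerPairs.Center Cfsg.Agent.Lib.BrauerPairs.Pairs
open Cfsg.Agent.Lib.BrauerPairs.Conj Cfsg.Agent.Lib.BrauerPairs.Transport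
open Cfsg.Agent.Lib.BrauerPairs.Maximal Cfsg.Agent.Lib.BrauerPairs.Bridge
open Cfsg.Agent.Lib.BrauerPairs.Local Cfsg.Agent.Lib.BrauerPairs.Fusion
open Cfsg.Agent.Lib.BrauerPairs.Extend

universe u

attribute [local instance] Ideal.Quotient.field

variable {M : Ideal Cfsg.AlgInt} [M.IsMaximal] {G : Type u} [Group G] [Finite G]
  {p : ℕ} [Fact p.Prime] [CharP (Res M) p]

local notation "C[" P "]" => Subgroup.centralizer ((P : Subgroup G) : Set G)

theorem stab_top_le {b : Idx (Res M) G} (hb : Top p b)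
    (h : ∀ x ∈ stab b, ¬ p ∣ orderOf x → x ∈ C[b.1]) {x : G} (hx : x ∈ stab b) :
    x ∈ b.1 ⊔ C[b.1] := by
  obtain ⟨u, v, huv, -, ⟨j, hu⟩, hv, hux, hvx⟩ :=
    Cfsg.Agent.Lib.Brauer.Induction.exists_pParts p Fact.out x
  have hzx : Subgroup.zpowers x ≤ stab b := Subgroup.zpowers_le.mpr hx
  rw [← huv]
  refine mul_mem ?_ (Subgroup.mem_sup_right (h v (hzx hvx) hv))
  obtain ⟨huN, hufix⟩ := mem_stab_iff.mp (hzx hux)
  refine BrauerPairs.Inertial.mem_sup_of_top hb huN ?_ hufix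
  exact IsPGroup.of_card (n := j) (by rw [Nat.card_zpowers, hu])

/-- With normal subgroup of the maximal pair, nilpotency is read off at the maximal pair. -/
theorem nilp_of_normal {ψ : Blk (Res M) G} {b : Idx (Res M) G} (hb : Top p b)
    (hψ : PairOf p ψ b) (hn : b.1.Normal)
    (h : ∀ x ∈ stab b, ¬ p ∣ orderOf x → x ∈ C[b.1]) : Nilp p ψ := by
  refine nilp_of_inner hb hψ ?_
  suffices hm : ∀ (n : ℕ) (a : Idx (Res M) G), Nat.card b.1 ≤ Nat.card a.1 + n →
      ∀ g : G, Le p a b → Le p (cPair g a) b →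
        ∃ u ∈ b.1, ∀ q ∈ a.1, g * q * g⁻¹ = u * q * u⁻¹ from
    fun a g => hm (Nat.card b.1) a (Nat.le_add_left _ _) g
  intro n
  induction n using Nat.strong_induction_on with
  | _ n ih =>
  -- conjugations onto a fully normalized pair
  have key : ∀ (c a : Idx (Res M) G), Nat.card b.1 ≤ Nat.card c.1 + n → ∀ g : G, Le p c b →
      Le p a b → cPair g c = a →
      (∀ g' : G, Le p (cPair g' a) b →
        Nat.card ↥(b.1.map (MulAut.conj g'⁻¹).toMonoidHom ⊓ Subgroup.normalizer (a.1 : Set G)) ≤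
          Nat.card ↥(b.1 ⊓ Subgroup.normalizer (a.1 : Set G))) →
      ∃ u ∈ b.1, ∀ q ∈ c.1, g * q * g⁻¹ = u * q * u⁻¹ := by
    intro c a hcard g hc ha hga hmax
    rcases eq_or_lt_of_le hc.subgroup_le with heq | hlt
    · have hcb : c = b := eq_of_le_of_le hb.1 heq hc Relation.ReflTransGen.refl
      subst hcb
      have hac : a.1 = c.1 := by
        refine Subgroup.eq_of_le_of_card_ge ha.subgroup_le ?_
        rw [← hga]
        exact (card_map_conj g c.1).ge
      have ha' : a = c := eq_of_le_of_le hb.1 hac ha Relation.ReflTransGen.refl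
      rw [ha'] at hga
      have hg := stab_top_le hb h (mem_stab.mpr hga)
      haveI := hn
      obtain ⟨u, hu, z, hz, rfl⟩ := Subgroup.mem_sup_of_normal_left.mp hg
      refine ⟨u, hu, fun q hq => ?_⟩
      have hzq : z * q * z⁻¹ = q := by rw [← hz q hq]; group
      calc u * z * q * (u * z)⁻¹ = u * (z * q * z⁻¹) * u⁻¹ := by group
        _ = _ := by rw [hzq]
    · set N := b.1 ⊓ Subgroup.normalizer (c.1 : Set G) with hN
      have hlt' : c.1 < N := lt_normalizer_inf hb.1 hlt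
      have himg : ∀ x ∈ N, g * x * g⁻¹ ∈ C[a.1] ⊔ (b.1 ⊓ Subgroup.normalizer (a.1 : Set G)) := by
        intro x hx
        refine Subgroup.mem_sup_right ⟨hn.conj_mem x hx.1 g, ?_⟩
        rw [← hga]
        exact conj_mem_normalizer hx.2
      obtain ⟨μ, hμ, z, hz, hle⟩ := exists_extension hb ha hmax hc hga hlt'.le le_rfl himg
      have hcN : Nat.card c.1 < Nat.card N := by
        by_contra h
        exact hlt'.ne (Subgroup.eq_of_le_of_card_ge hlt'.le (not_lt.mp h))
      obtain ⟨u, hu, h⟩ := ih (n - 1) (by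
          have := Nat.card_pos (α := c.1)
          have : Nat.card c.1 < Nat.card b.1 := by
            by_contra h'
            exact hlt.ne (Subgroup.eq_of_le_of_card_ge hlt.le (not_lt.mp h'))
          omega) ⟨N, μ⟩ (by show Nat.card b.1 ≤ Nat.card N + (n - 1); omega) (z * g) hμ hle
      refine ⟨u, hu, fun q hq => ?_⟩
      have hq' : g * q * g⁻¹ ∈ a.1 := by
        rw [← hga]
        exact ⟨q, hq, rfl⟩
      rw [← h q (hlt'.le hq)]
      calc g * q * g⁻¹ = z * (g * q * g⁻¹) * z⁻¹ := by rw [← hz _ hq']; group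
        _ = _ := by group
  intro a hcard g ha hga
  obtain ⟨g₁, hg₁, hmax⟩ := exists_max_normalizer hb.1 hga
  obtain ⟨u₁, hu₁, h₁⟩ := key (cPair g a) (cPair g₁ (cPair g a))
    (by show _ ≤ Nat.card (a.1.map (MulAut.conj g).toMonoidHom) + n; rw [card_map_conj]; exact hcard)
    g₁ hga hg₁ rfl hmax
  obtain ⟨u₂, hu₂, h₂⟩ := key a (cPair g₁ (cPair g a)) hcard (g₁ * g) ha hg₁
    (cPair_mul _ _ _) hmax
  refine ⟨u₁⁻¹ * u₂, mul_mem (inv_mem hu₁) hu₂, fun q hq => ?_⟩
  have h3 := h₁ (g * q * g⁻¹) ⟨q, hq, rfl⟩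
  have h4 := h₂ q hq
  calc g * q * g⁻¹ = u₁⁻¹ * (u₁ * (g * q * g⁻¹) * u₁⁻¹) * u₁ := by group
    _ = u₁⁻¹ * (g₁ * (g * q * g⁻¹) * g₁⁻¹) * u₁ := by rw [h3]
    _ = u₁⁻¹ * (g₁ * g * q * (g₁ * g)⁻¹) * u₁ := by group
    _ = u₁⁻¹ * (u₂ * q * u₂⁻¹) * u₁ := by rw [h4]
    _ = _ := by group

end Cfsg.Agent.Lib.EqualDegree.NormalNilp
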