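import Cfsg.Agent.Lib.BrauerPairs.BlockAlgebra
import Cfsg.Agent.Lib.BrauerMap.Inflation
import Cfsg.Agent.Lib.BrauerPairs.Trunc
import Mathlib.Data.Fintype.Basic

/-!
# The image of a block of regular rank one in a quotient by a central p-subgroup

It is a primitive idempotent of the centre.
-/

set_option autoImplicit false
set_option linter.unusedSectionVars false
set_option linter.style.haveILetI false
set_option synthInstance.maxHeartbeats 400000

namespace Cfsg.Agent.Lib.EqualDegree.Primitive

open MonoidAlgebra Module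
open Cfsg.Agent.Lib Cfsg.Agent.Lib.BrauerMap.Inflation
open Cfsg.Agent.Lib.BrauerPairs.BlockAlgebra Cfsg.Agent.Lib.BrauerPairs.CornerAlgebra
open Cfsg.Agent.Lib.BrauerPairs.Bridge (Res)

universe u

attribute [local instance] Ideal.Quotient.field

variable {M : Ideal Cfsg.AlgInt} [M.IsMaximal] {p : ℕ} [Fact p.Prime] [CharP (Res M) p]
  {C : Type u} [Group C] [Fintype C] {H : Type u} [Group H] [Finite H]

omit [Fact p.Prime] [CharP (Res M) p] in
/-- A matrix commuting with everything is a scalar. -/
theorem exists_scalar {n : ℕ} {X : Matrix (Fin n) (Fin n) (Res M)}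
    (h : ∀ Y, X * Y = Y * X) : ∃ c : Res M, X = algebraMap _ _ c := by
  have : X ∈ Subalgebra.center (Res M) (Matrix (Fin n) (Fin n) (Res M)) :=
    Subalgebra.mem_center_iff.mpr fun Y => (h Y).symm
  rw [Algebra.IsCentral.center_eq_bot, Algebra.mem_bot] at this
  obtain ⟨c, hc⟩ := this
  exact ⟨c, hc.symm⟩

theorem mul_eq_or_zero (hM : Cfsg.IsPModular p M) {B : Set (Cfsg.IrrCharacter C)}
    (hB : Cfsg.IsPBlock M B) (hl : Cfsg.blockRank p B = 1) (f : C →* H)
    (hf : Function.Surjective f)
    (hker : ∀ z : C, f z = 1 → (∀ c, z * c = c * z) ∧ ∃ j : ℕ, orderOf z = p ^ j)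
    {y : MonoidAlgebra (Res M) H} (hy : IsIdempotentElem y) (hyc : ∀ w, y * w = w * y) :
    y * push (Res M) f (eBar hB) = push (Res M) f (eBar hB) ∨
      y * push (Res M) f (eBar hB) = 0 := by
  classical
  set e := eBar hB with he
  have hne : e ≠ 0 := fun h => Blocks.blockIdemBar_ne_zero hB (Subtype.ext h)
  obtain ⟨n, hn, π, hπ, hπe⟩ :=
    BrauerPairs.SimpleRep.exists_rep (k := Res M) (eBar_mul_self hB) (eBar_comm hB) hne
  haveI : Nonempty (Fin n) := ⟨⟨0, hn⟩⟩
  obtain ⟨N, hN⟩ := BrauerPairs.SimpleRep.exists_prod_eq_zero (k := Res M) (eBar_mul_self hB)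
    (eBar_comm hB) (S := (kerPart π e : Set (MonoidAlgebra (Res M) C)))
    (fun x hx => (mem_kerPart.mp hx).1) (fun m ρ hρ hρe x hx => by
      rcases Nat.eq_zero_or_pos m with rfl | hm
      · exact Subsingleton.elim _ _
      obtain ⟨w, hw⟩ := hπ (Matrix.single ⟨0, hn⟩ ⟨0, hn⟩ 1)
      refine BrauerPairs.SimpleRep.eq_zero_of_trace fun Y => ?_
      obtain ⟨a, rfl⟩ := hρ Y
      rw [← map_mul]
      have h := trace_mul_trace hM hB hl hn hm π ρ hπe hρe w (a * x)
      rw [hw, Matrix.trace_single_eq_same, one_mul, map_mul π, (mem_kerPart.mp hx).2, mul_zero,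
        Matrix.trace_zero, zero_mul] at h
      exact h)
  rw [Submodule.span_eq] at hN
  have hnil : ∀ x ∈ kerPart π e, x ^ (N + 1) = 0 := fun x hx => by
    simpa [hN] using Submodule.pow_mem_pow _ hx (N + 1)
  -- the representation factors through `f`
  have hone : ∀ z : C, f z = 1 → π (single z 1) = 1 := by
    intro z hz
    obtain ⟨hzc, j, hj⟩ := hker z hz
    obtain ⟨c, hc⟩ := exists_scalar (X := π (single z 1)) fun Y => by
      obtain ⟨a, rfl⟩ := hπ Y
      rw [← map_mul, ← map_mul]
      congr 1
      induction a using MonoidAlgebra.induction_linear with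
      | zero => simp
      | add u v hu hv => rw [mul_add, add_mul, hu, hv]
      | single g r => rw [single_mul_single, single_mul_single, one_mul, mul_one, hzc g]
    have h1 : c ^ p ^ j = 1 := by
      refine (algebraMap (Res M) (Matrix (Fin n) (Fin n) (Res M))).injective ?_
      rw [map_pow, ← hc, ← map_pow, MonoidAlgebra.single_pow, one_pow, ← hj, pow_orderOf_eq_one,
        ← MonoidAlgebra.one_def, map_one, map_one]
    have h2 : c = 1 := by
      rw [← sub_eq_zero]
      refine IsNilpotent.eq_zero (sub_pow_isNilpotent (p := p) h1)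
    rw [hc, h2, map_one]
  have hwd : ∀ a b : C, f a = f b → π (single a 1) = π (single b 1) := by
    intro a b h
    have h1 := hone (b⁻¹ * a) (by rw [map_mul, map_inv, h, inv_mul_cancel])
    rw [show single a (1 : Res M) = single b 1 * single (b⁻¹ * a) 1 by
      rw [single_mul_single, one_mul, mul_inv_cancel_left], map_mul, h1, mul_one]
  let ρ : H →* Matrix (Fin n) (Fin n) (Res M) :=
    { toFun := fun h => π (single (Function.surjInv hf h) 1)
      map_one' := hone _ (Function.surjInv_eq hf 1)
      map_mul' := fun a b => by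
        rw [← map_mul, single_mul_single, one_mul]
        exact hwd _ _ (by rw [map_mul, Function.surjInv_eq hf, Function.surjInv_eq hf,
          Function.surjInv_eq hf]) }
  let πb : MonoidAlgebra (Res M) H →ₐ[Res M] Matrix (Fin n) (Fin n) (Res M) :=
    MonoidAlgebra.lift (Res M) (Matrix (Fin n) (Fin n) (Res M)) H ρ
  have hπb : ∀ x, πb (push (Res M) f x) = π x := by
    intro x
    induction x using MonoidAlgebra.induction_linear with
    | zero => simp
    | add u v hu hv => rw [map_add, map_add, map_add, hu, hv]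
    | single g r =>
      rw [push_single, show single g r = r • single g (1 : Res M) by simp, map_smul]
      show MonoidAlgebra.lift (Res M) (Matrix (Fin n) (Fin n) (Res M)) H ρ (single (f g) r) = _
      rw [MonoidAlgebra.lift_single]
      congr 1
      exact hwd _ _ (Function.surjInv_eq hf _)
  have hpush : Function.Surjective (push (Res M) f) := by
    intro w
    induction w using MonoidAlgebra.induction_linear with
    | zero => exact ⟨0, map_zero _⟩
    | add u v hu hv =>
      obtain ⟨a, rfl⟩ := hu
      obtain ⟨b, rfl⟩ := hv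
      exact ⟨a + b, map_add _ _ _⟩
    | single h r =>
      obtain ⟨g, rfl⟩ := hf h
      exact ⟨single g r, push_single f g r⟩
  obtain ⟨c, hc⟩ := exists_scalar (X := πb y) fun Y => by
    obtain ⟨a, rfl⟩ := hπ Y
    rw [← hπb, ← map_mul, ← map_mul, hyc]
  have hc2 : c * c = c := by
    refine (algebraMap (Res M) (Matrix (Fin n) (Fin n) (Res M))).injective ?_
    rw [map_mul, ← hc, ← map_mul, hy.eq]
  obtain ⟨a, ha⟩ := hpush y
  have hye : y * push (Res M) f e = push (Res M) f (e * a) := by
    rw [map_mul, ha, hyc]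
  have hπea : π (e * a) = algebraMap _ _ c := by rw [map_mul, hπe, one_mul, ← hπb, ha, hc]
  have hidem : IsIdempotentElem (y * push (Res M) f e) :=
    IsIdempotentElem.mul_of_commute (hyc _) hy (by
      show push (Res M) f e * push (Res M) f e = _
      rw [← map_mul, eBar_mul_self])
  by_cases h : c = 0
  · right
    have hx : e * a ∈ kerPart π e :=
      mem_kerPart.mpr ⟨by rw [← mul_assoc, eBar_mul_self], by rw [hπea, h, map_zero]⟩
    rw [← hidem.pow_succ_eq N, hye, ← map_pow, hnil _ hx, map_zero]
  · left
    have hc1 : c = 1 := mul_left_cancel₀ h (hc2.trans (mul_one c).symm)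
    have hx : e - e * a ∈ kerPart π e := mem_kerPart.mpr
      ⟨by rw [mul_sub, eBar_mul_self, ← mul_assoc, eBar_mul_self],
        by rw [map_sub, hπe, hπea, hc1, map_one, sub_self]⟩
    have hid : IsIdempotentElem (push (Res M) f e - y * push (Res M) f e) := by
      have hee : push (Res M) f e * push (Res M) f e = push (Res M) f e := by
        rw [← map_mul, eBar_mul_self]
      show (push (Res M) f e - y * push (Res M) f e) * (push (Res M) f e - y * push (Res M) f e) = _
      rw [sub_mul, mul_sub, mul_sub, hee, ← mul_assoc (push (Res M) f e), ← hyc, mul_assoc y, hee,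
        hidem.eq, sub_self, sub_zero]
    have h0 : push (Res M) f e - y * push (Res M) f e = 0 := by
      rw [← hid.pow_succ_eq N, hye, ← map_sub, ← map_pow, hnil _ hx, map_zero]
    exact (sub_eq_zero.mp h0).symm

end Cfsg.Agent.Lib.EqualDegree.Primitive
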