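import Cfsg.Agent.Lib.EqualDegree.Main
import Cfsg.Agent.Lib.EqualDegree.Primitive
import Cfsg.Agent.Lib.EqualDegree.NormalNilp
import Cfsg.Agent.Lib.BC77.QuotientBlock
import Cfsg.Agent.Lib.Clifford.Ito
import Cfsg.Agent.Lib.Coprime.Commutator
import Cfsg.Agent.Lib.PGroups.Frattini

/-!
# Normal defect group: one degree at height zero forces nilpotency

Pass to the quotient by the derived subgroup of the defect group, where the defect group is
abelian.
-/

set_option autoImplicit false
set_option linter.unusedSectionVars false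
set_option linter.style.haveILetI false
set_option synthInstance.maxHeartbeats 400000

namespace Cfsg.Agent.Lib.EqualDegree.Quotient

open MonoidAlgebra
open Cfsg.Agent.Lib Cfsg.Agent.Lib.BrauerMap.Basic Cfsg.Agent.Lib.BrauerMap.ClassSum
open Cfsg.Agent.Lib.BrauerMap.Inflation
open Cfsg.Agent.Lib.BrauerPairs.Center Cfsg.Agent.Lib.BrauerPairs.Trunc
open Cfsg.Agent.Lib.BrauerPairs.Conj Cfsg.Agent.Lib.BrauerPairs.Pairs
open Cfsg.Agent.Lib.BrauerPairs.Transport Cfsg.Agent.Lib.BrauerPairs.Maximal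
open Cfsg.Agent.Lib.BrauerPairs.Bridge Cfsg.Agent.Lib.BrauerPairs.Local
open Cfsg.Agent.Lib.BrauerPairs.Fusion
open Cfsg.Agent.Lib.BrauerPairs.BlockAlgebra

universe u

attribute [local instance] Ideal.Quotient.field

variable {M : Ideal Cfsg.AlgInt} [M.IsMaximal] {G : Type u} [Group G] [Finite G]
  {p : ℕ} [Fact p.Prime] [CharP (Res M) p]

local notation "C[" P "]" => Subgroup.centralizer ((P : Subgroup G) : Set G)

theorem eBar_eq_bidem {H : Type u} [Group H] [Fintype H] {B : Set (Cfsg.IrrCharacter H)}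
    (hB : Cfsg.IsPBlock M B) : eBar hB = bidem (blk hB) := by
  rw [eBar, ← idem_eq_blockIdemBar hB]
  rfl

/-- The idempotent of a block lives on the centralizer of a normal `p`-subgroup. -/
theorem ext_br_bidem (ψ : Blk (Res M) G) {P : Subgroup G} [P.Normal] (hP : IsPGroup p P) :
    ext C[P] (br P (bidem ψ)) = bidem ψ := by
  classical
  haveI : Finite (ConjClasses G) := Quotient.finite _
  haveI := Fintype.ofFinite (ConjClasses G)
  have hfix := isFixedBy_of_mem_center P (bidem_mem ψ)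
  have hcen : ext C[P] (br P (bidem ψ)) ∈ Subalgebra.center (Res M) (MonoidAlgebra (Res M) G) := by
    rw [mem_center_iff_coeff]
    intro u g
    have hn : u ∈ Subgroup.normalizer (P : Set G) := by
      rw [Subgroup.normalizer_eq_top]; exact Subgroup.mem_top u
    by_cases hg : g ∈ C[P]
    · rw [show (ext C[P] (br P (bidem ψ))).coeff g = (bidem ψ).coeff g from
        (coeff_ext _ (br P (bidem ψ)) ⟨g, hg⟩).trans (coeff_br _ _ _),
        show (ext C[P] (br P (bidem ψ))).coeff (u * g * u⁻¹) = (bidem ψ).coeff (u * g * u⁻¹) from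
        (coeff_ext _ (br P (bidem ψ)) ⟨_, (mem_centralizer_conj_iff hn g).mp hg⟩).trans
          (coeff_br _ _ _)]
      exact (mem_center_iff_coeff _).1 (bidem_mem ψ) u g
    · rw [coeff_ext_of_notMem _ _ hg, coeff_ext_of_notMem _ _
        ((mem_centralizer_conj_iff hn g).not.mp hg)]
  have hidem : IsIdempotentElem (ext C[P] (br P (bidem ψ))) := by
    show ext C[P] (br P (bidem ψ)) * ext C[P] (br P (bidem ψ)) = _
    rw [← map_mul, (br_isIdem hP (bidem_isIdem ψ) hfix).eq]
  have hnil : IsNilpotent ((⟨_, hcen⟩ : ZAlg (Res M) G) - idem ψ) := by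
    set d : ZAlg (Res M) G := (⟨_, hcen⟩ : ZAlg (Res M) G) - idem ψ with hd
    have hd' : d = ∑ c : ConjClasses G, d.1.coeff c.out • classSumC (Res M) c.out := by
      refine Subtype.ext ?_
      rw [AddSubmonoidClass.coe_finsetSum]
      exact eq_sum_classSum d.2
    rw [hd']
    refine isNilpotent_sum fun c _ => ?_
    by_cases hc : c.out ∈ C[P]
    · have h0 : d.1.coeff c.out = 0 := by
        have h1 : (ext C[P] (br P (bidem ψ))).coeff c.out = (bidem ψ).coeff c.out :=
          (coeff_ext _ (br P (bidem ψ)) ⟨c.out, hc⟩).trans (coeff_br _ _ _)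
        rw [hd, AddSubgroupClass.coe_sub, coeff_sub, Finsupp.sub_apply, sub_eq_zero]
        exact h1
      exact ⟨1, by rw [h0, pow_one]; exact zero_smul (Res M) (classSumC (Res M) c.out)⟩
    · exact (BrauerMap.Nilpotent.isNilpotent_classSum (Res M) hP hc).smul _
  exact congrArg Subtype.val (eq_of_isNilpotent_sub_of_isIdempotentElem
    (e₁ := (⟨_, hcen⟩ : ZAlg (Res M) G)) (Subtype.ext hidem) (idem_isIdem ψ) hnil)

/-- Images commute with conjugation. -/
theorem conjA_push {H : Type u} [Group H] [Finite H] (f : G →* H) (x : G)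
    (z : MonoidAlgebra (Res M) G) :
    conjA (f x) (push (Res M) f z) = push (Res M) f (conjA x z) := by
  induction z using MonoidAlgebra.induction_linear with
  | zero => simp
  | add u v hu hv => simp only [map_add, hu, hv]
  | single g r =>
    rw [push_single, conjA, conjA, domCongr_single, domCongr_single, push_single]
    simp

theorem push_ext {H : Type u} [Group H] [Finite H] (f : G →* H) (K : Subgroup G) (L : Subgroup H)
    (f' : K →* L) (hf' : ∀ c : K, (f' c : H) = f c) (z : MonoidAlgebra (Res M) K) :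
    push (Res M) f (ext K z) = ext L (push (Res M) f' z) := by
  induction z using MonoidAlgebra.induction_linear with
  | zero => simp
  | add u v hu hv => simp only [map_add, hu, hv]
  | single g r => rw [ext_single, push_single, push_single, ext_single, hf']

theorem br_ext {H : Type u} [Group H] [Finite H] (P : Subgroup H)
    (z : MonoidAlgebra (Res M) (Subgroup.centralizer (P : Set H))) :
    br P (ext (Subgroup.centralizer (P : Set H)) z) = z := by
  ext h
  rw [coeff_br, coeff_ext]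

/-- A regular element acting trivially modulo the derived subgroup centralizes. -/
theorem mem_centralizer_of_commutator {D : Subgroup G} [D.Normal] (hD : IsPGroup p D) {g : G}
    (hg : ¬ p ∣ orderOf g) (h : ∀ k ∈ D, g * k * g⁻¹ * k⁻¹ ∈ ⁅D, D⁆) : g ∈ C[D] := by
  have hle : ⁅D, D⁆ ≤ (frattini D).map D.subtype := by
    rw [← Subgroup.map_subtype_commutator]
    exact Subgroup.map_mono (PGroups.commutator_le_frattini hD)
  refine Coprime.le_centralizer_of_frattini (A := Subgroup.zpowers g) ?_ ?_ ?_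
    (Subgroup.mem_zpowers g)
  · rw [Subgroup.normalizer_eq_top]; exact le_top
  · obtain ⟨n, hn⟩ := IsPGroup.iff_card.mp (hD.to_subgroup (frattini D))
    rw [hn, Nat.card_zpowers]
    exact ((Fact.out : p.Prime).coprime_iff_not_dvd.mpr hg).symm.pow_right n
  · intro a ha k hk
    refine hle ?_
    let f := QuotientGroup.mk' ⁅D, D⁆
    have hg' : f g ∈ Subgroup.centralizer ({f k} : Set (G ⧸ ⁅D, D⁆)) := by
      rw [Subgroup.mem_centralizer_singleton_iff, ← mul_inv_eq_one, mul_inv_rev, ← mul_assoc,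
        ← map_mul, ← map_inv, ← map_mul, ← map_inv, ← map_mul, ← MonoidHom.mem_ker,
        QuotientGroup.ker_mk']
      simpa [mul_assoc] using h k hk
    obtain ⟨i, rfl⟩ := Subgroup.mem_zpowers_iff.mp ha
    have hgi := Subgroup.mem_centralizer_singleton_iff.mp (Subgroup.zpow_mem _ hg' i)
    rw [← map_zpow] at hgi
    rw [← QuotientGroup.eq_one_iff, ← QuotientGroup.mk'_apply]
    simp only [map_mul, map_inv]
    rw [mul_inv_eq_one, mul_inv_eq_iff_eq_mul]
    exact hgi

/-- The regular part of a preimage. -/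
theorem exists_regular_lift {H : Type u} [Group H] [Finite H] (f : G →* H) (c : G)
    (hy : ¬ p ∣ orderOf (f c)) : ∃ v : G, ¬ p ∣ orderOf v ∧ f v = f c := by
  obtain ⟨u, v, huv, -, ⟨j, hu⟩, hv, -, hvc⟩ :=
    Cfsg.Agent.Lib.Brauer.Induction.exists_pParts p Fact.out c
  refine ⟨v, hv, ?_⟩
  have h1 : f u = 1 := by
    rw [← orderOf_eq_one_iff]
    refine Nat.eq_one_of_dvd_coprimes
      (((Fact.out : p.Prime).coprime_iff_not_dvd.mpr hy).pow_left j) (hu ▸ orderOf_map_dvd f u) ?_
    obtain ⟨m, hm⟩ : f u ∈ Subgroup.zpowers (f c) := by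
      obtain ⟨k, hk⟩ := Subgroup.mem_zpowers_iff.mp hvc
      refine Subgroup.mem_zpowers_iff.mpr ⟨1 - k, ?_⟩
      have : f u = f c * (f v)⁻¹ := by rw [← map_inv, ← map_mul, ← huv, mul_inv_cancel_right]
      rw [this, ← hk, map_zpow, zpow_sub, zpow_one]
    exact orderOf_dvd_of_mem_zpowers ⟨m, hm⟩
  rw [← huv, map_mul, h1, one_mul]

variable (hM : Cfsg.IsPModular p M) {B : Set (Cfsg.IrrCharacter G)} (hB : Cfsg.IsPBlock M B)
  {d : ℕ} (hd : ∀ χ ∈ B, Cfsg.blockHeight p B (χ : G → ℂ) = 0 →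
    Cfsg.charDegree (χ : G → ℂ) = d)

include hM hd

set_option maxHeartbeats 1000000 in
/-- The regular elements of the stabilizer of a maximal pair centralize it. -/
theorem mem_centralizer_of_mem_stab {b : Idx (Res M) G} (hb : Top p b)
    (hψ : PairOf p (blk hB) b) (hn : b.1.Normal) {x : G} (hx : x ∈ stab b)
    (hreg : ¬ p ∣ orderOf x) : x ∈ C[b.1] := by
  classical
  set D := b.1 with hDdef
  haveI := hn
  haveI := Fintype.ofFinite G
  set Q : Subgroup G := ⁅D, D⁆ with hQdef
  haveI : Q.Normal := Subgroup.commutator_normal D D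
  let f : G →* G ⧸ Q := QuotientGroup.mk' Q
  have hf : Function.Surjective f := QuotientGroup.mk'_surjective Q
  have hQD : Q ≤ D := Subgroup.commutator_le_left D D
  have hker : f.ker = Q := QuotientGroup.ker_mk' Q
  haveI := Fintype.ofFinite (G ⧸ Q)
  set Db : Subgroup (G ⧸ Q) := D.map f with hDb
  haveI : Db.Normal := hn.map f hf
  have hDbp : IsPGroup p Db := hb.1.map f
  have hDbab : ∀ u ∈ Db, ∀ v ∈ Db, u * v = v * u := by
    rintro _ ⟨u, hu, rfl⟩ _ ⟨v, hv, rfl⟩
    rw [← commutatorElement_eq_one_iff_mul_comm, ← map_commutatorElement, ← MonoidHom.mem_ker,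
      hker]
    exact Subgroup.commutator_mem_commutator hu hv
  set L := Subgroup.centralizer (Db : Set (G ⧸ Q)) with hL
  haveI := Fintype.ofFinite L
  set K : Subgroup (G ⧸ Q) := C[D].map f with hK
  have hKL : K ≤ L := by
    rintro _ ⟨c, hc, rfl⟩
    rintro _ ⟨u, hu, rfl⟩
    rw [← map_mul, ← map_mul, hc u hu]
  let fK : C[D] →* K := f.subgroupMap C[D]
  let fL : C[D] →* L := (Subgroup.inclusion hKL).comp fK
  -- the image of the block at the centralizer
  set qe : MonoidAlgebra (Res M) (G ⧸ Q) := push (Res M) f (bext C[D] b.2) with hqe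
  haveI := Fintype.ofFinite C[D]
  have hBe : Cfsg.IsPBlock M (toSet (b.2 : Blk (Res M) C[D])) := isPBlock_toSet _
  have heb : eBar hBe = bidem (b.2 : Blk (Res M) C[D]) := by rw [eBar_eq_bidem, blk_toSet]
  have hprim : ∀ y : MonoidAlgebra (Res M) K, IsIdempotentElem y →
      (∀ w, y * w = w * y) →
      y * push (Res M) fK (bidem b.2) = push (Res M) fK (bidem b.2) ∨
        y * push (Res M) fK (bidem b.2) = 0 := by
    intro y hy hyc
    rw [← heb]
    refine Primitive.mul_eq_or_zero hM hBe (Local.blockRank_eq_one hM hb).1 fK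
      (f.subgroupMap_surjective _) (fun z hz => ?_) hy hyc
    have hzQ : (z : G) ∈ Q := by
      rw [← hker, MonoidHom.mem_ker]
      exact congrArg Subtype.val hz
    refine ⟨fun c => Subtype.ext (c.2 _ (hQD hzQ)), ?_⟩
    obtain ⟨j, hj⟩ := IsPGroup.iff_orderOf.mp hb.1 ⟨(z : G), hQD hzQ⟩
    exact ⟨j, by rw [← hj, ← Subgroup.orderOf_coe, Subgroup.orderOf_mk]⟩
  have hqeK : qe = ext K (push (Res M) fK (bidem b.2)) := push_ext f C[D] K fK (fun _ => rfl) _
  -- the blocks of the centralizer of the image live on the image of the centralizer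
  have hsupp : ∀ ν : Blk (Res M) L, ∀ l : L, (bidem ν).coeff l ≠ 0 → (l : G ⧸ Q) ∈ K := by
    intro ν l hl
    have hlreg : ¬ p ∣ orderOf l := fun h => hl (Local.coeff_singular hM ν h)
    obtain ⟨c, hc⟩ := hf (l : G ⧸ Q)
    obtain ⟨v, hv, hvc⟩ := exists_regular_lift f c
      (by rw [hc, Subgroup.orderOf_coe]; exact hlreg)
    refine ⟨v, mem_centralizer_of_commutator hb.1 hv fun k hk => ?_, hvc.trans hc⟩
    rw [← hQdef, ← hker, MonoidHom.mem_ker]
    simp only [map_mul, map_inv]
    rw [hvc, hc, mul_inv_eq_one, mul_inv_eq_iff_eq_mul]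
    exact (l.2 _ ⟨k, hk, rfl⟩).symm
  have hνK : ∀ ν : Blk (Res M) L, bext L ν * qe = qe ∨ bext L ν * qe = 0 := by
    intro ν
    set y : MonoidAlgebra (Res M) K := brauerTo ⊥ K (bext L ν) with hy
    have hbot : ∀ g : G ⧸ Q, g ∈ Subgroup.centralizer ((⊥ : Subgroup (G ⧸ Q)) : Set (G ⧸ Q)) :=
      fun g u hu => by rw [Subgroup.mem_bot.mp hu, one_mul, mul_one]
    have hcy : ∀ k : K, y.coeff k = (bext L ν).coeff (k : G ⧸ Q) := fun k => by
      rw [hy, coeff_brauerTo, if_pos (hbot _)]
    have hey : ext K y = bext L ν := by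
      ext g
      by_cases hg : g ∈ K
      · exact (coeff_ext K y ⟨g, hg⟩).trans (hcy ⟨g, hg⟩)
      · rw [coeff_ext_of_notMem _ _ hg]
        by_cases hgL : g ∈ L
        · rw [bext, show (ext L (bidem ν)).coeff g = (bidem ν).coeff ⟨g, hgL⟩ from
            coeff_ext L (bidem ν) ⟨g, hgL⟩]
          by_contra h
          exact hg (hsupp ν ⟨g, hgL⟩ (Ne.symm h))
        · rw [bext, coeff_ext_of_notMem _ _ hgL]
    have hyi : IsIdempotentElem y := ext_injective K (by
      rw [map_mul, hey, (bext_isIdem L ν).eq])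
    have hym : y ∈ Subalgebra.center (Res M) (MonoidAlgebra (Res M) K) := by
      rw [mem_center_iff_coeff]
      intro u h
      rw [hcy, hcy]
      have h1 := (isFixedBy_iff L (bext L ν)).mp (isFixedBy_bext L ν) (u : G ⧸ Q) (hKL u.2)
      have h2 := congrArg (fun w : MonoidAlgebra (Res M) (G ⧸ Q) =>
        w.coeff ((u : G ⧸ Q) * (h : G ⧸ Q) * (u : G ⧸ Q)⁻¹)) h1
      simp only [coeff_conjA] at h2
      rw [show (u : G ⧸ Q)⁻¹ * ((u : G ⧸ Q) * (h : G ⧸ Q) * (u : G ⧸ Q)⁻¹) * (u : G ⧸ Q) =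
        (h : G ⧸ Q) by group] at h2
      exact h2.symm
    have hyc : ∀ w, y * w = w * y := fun w => (Subalgebra.mem_center_iff.mp hym w).symm
    rw [← hey, hqeK, ← map_mul]
    rcases hprim y hyi hyc with h | h
    · exact Or.inl (by rw [h])
    · exact Or.inr (by rw [h, map_zero])
  have hqe0 : qe ≠ 0 := by
    intro h0
    rw [hqeK] at h0
    have h1 : push (Res M) fK (bidem b.2) = 0 := ext_injective K (h0.trans (map_zero _).symm)
    obtain ⟨g, hg, hg0⟩ := Local.exists_regular_coeff hM (b.2 : Blk (Res M) C[D])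
    apply hg0
    have h2 := congrArg (fun w : MonoidAlgebra (Res M) K => w.coeff (fK g)) h1
    simp only [coeff_push, coeff_zero, Finsupp.zero_apply] at h2
    rw [Finset.sum_eq_single g] at h2
    · rwa [if_pos rfl] at h2
    · intro c _ hcg
      split_ifs with hfc
      · refine Local.coeff_singular hM _ ?_
        set w := g⁻¹ * c with hw
        have hwQ : (w : G) ∈ Q := by
          rw [← hker, MonoidHom.mem_ker, hw, Subgroup.coe_mul, Subgroup.coe_inv, map_mul, map_inv,
            show f (c : G) = f (g : G) from congrArg Subtype.val hfc, inv_mul_cancel]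
        have hcw : Commute g w := Subtype.ext (g.2 _ (hQD hwQ)).symm
        obtain ⟨j, hj⟩ := IsPGroup.iff_orderOf.mp hb.1 ⟨(w : G), hQD hwQ⟩
        rw [Subgroup.orderOf_mk, Subgroup.orderOf_coe] at hj
        by_contra hcr
        apply hcg
        have h3 := Local.eq_one_of_regular hM hcw ⟨j, hj⟩ hg (by
          rwa [hw, mul_inv_cancel_left])
        exact (inv_mul_eq_one.mp h3).symm
      · rfl
    · exact fun h => absurd (Finset.mem_univ _) h
  -- the component
  haveI := Fintype.ofFinite (Blk (Res M) L)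
  obtain ⟨ν, hν⟩ : ∃ ν : Blk (Res M) L, bext L ν * qe ≠ 0 := by
    by_contra h
    push Not at h
    apply hqe0
    rw [← one_mul qe, ← sum_bext L, Finset.sum_mul, Finset.sum_eq_zero fun ν _ => h ν]
  have hνq : bext L ν * qe = qe := (hνK ν).resolve_right hν
  obtain ⟨hxN, hxfix⟩ := mem_stab_iff.mp hx
  have hfxN : f x ∈ Subgroup.normalizer (Db : Set (G ⧸ Q)) := by
    rw [Subgroup.normalizer_eq_top]; exact Subgroup.mem_top _
  have hxq : conjA (f x) qe = qe := by rw [hqe, conjA_push, hxfix]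
  have hxstab : f x ∈ stab (⟨Db, ν⟩ : Idx (Res M) (G ⧸ Q)) := by
    refine mem_stab_iff.mpr ⟨hfxN, ?_⟩
    rw [← bext_act Db hfxN ν]
    by_contra hne
    have h1 : bext L (act Db hfxN ν) * qe = qe := by
      rw [bext_act Db hfxN ν, ← hxq, ← map_mul, hνq]
    apply hqe0
    rw [← hνq, ← h1, ← mul_assoc, bext_mul_bext L (fun e => hne (by rw [← e])), zero_mul]
  -- the block of the quotient
  set ψb : Blk (Res M) (G ⧸ Q) := pairBlk (a := (⟨Db, ν⟩ : Idx (Res M) (G ⧸ Q))) hDbp with hψb
  have hpair : PairOf p ψb (⟨Db, ν⟩ : Idx (Res M) (G ⧸ Q)) := pairOf_iff.mpr ⟨hDbp, rfl⟩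
  have hBb : Cfsg.IsPBlock M (toSet ψb) := isPBlock_toSet ψb
  have heB : bidem (blk hB) * bext C[D] b.2 = bext C[D] b.2 := by
    have hC : IsFixedBy C[D] (bidem (blk hB)) := isFixedBy_of_mem_center _ (bidem_mem _)
    have hy : IsIdempotentElem (⟨br D (bidem (blk hB)), br_mem_center hC⟩ : ZAlg (Res M) C[D]) :=
      Subtype.ext (br_isIdem hb.1 (bidem_isIdem _) (isFixedBy_of_mem_center _ (bidem_mem _)))
    have h1 : br D (bidem (blk hB)) * bidem b.2 = bidem b.2 := congrArg Subtype.val
      (mul_idem_eq b.2 hy ((val_eq b.2 hC).symm.trans hψ.2))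
    rw [← ext_br_bidem (blk hB) hb.1, bext, ← map_mul, h1]
  set eb : ZAlg (Res M) (G ⧸ Q) := pushC (Res M) f hf (idem (blk hB)) with heb'
  have hebi : IsIdempotentElem eb := IsIdempotentElem.map (idem_isIdem _) _
  have hebv : (eb : MonoidAlgebra (Res M) (G ⧸ Q)) =
      ext L (push (Res M) fL (br D (bidem (blk hB)))) := by
    rw [heb', coe_pushC, ← push_ext f C[D] L fL (fun _ => rfl), ext_br_bidem (blk hB) hb.1]
    rfl
  have hψeb : ψb eb = 1 := by
    refine (apply_zero_or_one hebi ψb).resolve_left fun h0 => hqe0 ?_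
    have hC : IsFixedBy L (eb : MonoidAlgebra (Res M) (G ⧸ Q)) :=
      isFixedBy_of_mem_center _ eb.2
    rw [hψb, pairBlk_apply, val_eq ν hC] at h0
    have hy : IsIdempotentElem (⟨br Db (eb : MonoidAlgebra (Res M) (G ⧸ Q)), br_mem_center hC⟩ :
        ZAlg (Res M) L) := Subtype.ext (br_isIdem hDbp (congrArg Subtype.val hebi)
          (isFixedBy_of_mem_center _ eb.2))
    have h1 : br Db (eb : MonoidAlgebra (Res M) (G ⧸ Q)) * bidem ν = 0 := congrArg Subtype.val
      (idem_ext (k := Res M) (hy.mul (idem_isIdem ν)) .zero fun φ => by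
        rw [map_mul, map_zero]
        by_cases hφ : φ = ν
        · rw [hφ, h0, zero_mul]
        · rw [apply_idem_ne hφ, mul_zero])
    rw [hebv, br_ext] at h1
    have h2 : (eb : MonoidAlgebra (Res M) (G ⧸ Q)) * bext L ν = 0 := by
      rw [hebv, bext, ← map_mul, h1, map_zero]
    calc qe = (eb : MonoidAlgebra (Res M) (G ⧸ Q)) * qe := by
          rw [heb', coe_pushC, hqe, ← map_mul]
          exact (congrArg (push (Res M) f) heB).symm
      _ = 0 := by rw [← hνq, ← mul_assoc, h2, zero_mul]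
  have hsub : ∀ χ ∈ toSet ψb, infl f hf χ ∈ B := by
    intro χ hχ
    by_contra hn'
    have h1 : Blocks.omegaBar M (infl f hf χ) (idem (blk hB)) = 0 := by
      rw [idem_eq_blockIdemBar hB, Blocks.omegaBar_blockIdemBar, if_neg hn']
    rw [omegaBar_infl, AlgHom.comp_apply] at h1
    rw [show Blocks.omegaBar M χ = ψb from hχ, ← heb', hψeb] at h1
    exact one_ne_zero h1
  have hDdef : Cfsg.IsDefectGroup p M B D := (isDefectGroup_iff hB D).mpr (isDef_of_top hb hψ)
  obtain ⟨E, hE⟩ := exists_isDef (p := p) ψb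
  have hEdef : Cfsg.IsDefectGroup p M (toSet ψb) E := by
    rw [isDefectGroup_iff hBb, blk_toSet]; exact hE
  obtain ⟨y, hy⟩ := exists_map_le_isDef hpair hE
  obtain ⟨P, hP, hEP⟩ := BC77.QuotientBlock.exists_defect_le hM f hf hBb hB hsub hEdef
  obtain ⟨z, hz⟩ := isDef_conj ((isDefectGroup_iff hB D).mp hDdef) ((isDefectGroup_iff hB P).mp hP)
  have hPD : P = D := by
    rw [← hz]
    exact map_conj_eq_of_mem (by rw [Subgroup.normalizer_eq_top]; exact Subgroup.mem_top _)
  have hyD : Db.map (MulAut.conj y).toMonoidHom = Db :=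
    map_conj_eq_of_mem (by rw [Subgroup.normalizer_eq_top]; exact Subgroup.mem_top _)
  have hED : E = Db := le_antisymm (by rw [hPD] at hEP; exact hEP) (by rw [hyD] at hy; exact hy)
  subst hED
  have htop : Top p (⟨Db, ν⟩ : Idx (Res M) (G ⧸ Q)) := top_of_isDef hpair hE
  have hidx : Db.index = D.index := Subgroup.index_map_eq D hf (hker.trans_le hQD)
  have hdeg : ∀ χ : Cfsg.IrrCharacter (G ⧸ Q),
      Cfsg.charDegree (infl f hf χ : G → ℂ) = Cfsg.charDegree (χ : G ⧸ Q → ℂ) := fun χ => by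
    rw [Cfsg.charDegree, Cfsg.charDegree, infl_apply, map_one]
  have hfac : ∀ χ : Cfsg.IrrCharacter (G ⧸ Q),
      (Cfsg.charDegree (χ : G ⧸ Q → ℂ)).factorization p ≤ Db.index.factorization p := by
    intro χ
    obtain ⟨n, hn1, hn2⟩ := Clifford.Ito.degree_dvd_index Db hDbab χ
    have hn3 : Cfsg.charDegree (χ : G ⧸ Q → ℂ) = n := by
      rw [Cfsg.charDegree, hn1, Complex.natCast_re, Nat.floor_natCast]
    rw [hn3]
    exact (Nat.factorization_le_iff_dvd
      (hn3 ▸ (BlocksChars5.Basic.degree_pos χ).ne') Subgroup.index_ne_zero_of_finite).mpr hn2 p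
  have h0b : ∀ χ ∈ toSet ψb, Cfsg.blockHeight p (toSet ψb) (χ : G ⧸ Q → ℂ) = 0 := fun χ _ => by
    rw [Blocks.blockHeight_eq hM hBb hEdef]
    have := hfac χ
    omega
  have hdb : ∀ χ ∈ toSet ψb, Cfsg.charDegree (χ : G ⧸ Q → ℂ) = d := fun χ hχ => by
    rw [← hdeg]
    refine hd _ (hsub χ hχ) ?_
    rw [Blocks.blockHeight_eq hM hB hDdef, hdeg, ← hidx]
    have := hfac χ
    omega
  have hxc := Main.mem_centralizer_of_mem_stab hBb hM hdb h0b htop (by rwa [blk_toSet]) hDbab
    hxstab
  refine mem_centralizer_of_commutator hb.1 hreg fun k hk => ?_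
  rw [← hQdef, ← hker, MonoidHom.mem_ker]
  simp only [map_mul, map_inv]
  rw [mul_inv_eq_one, mul_inv_eq_iff_eq_mul]
  exact (hxc _ ⟨k, hk, rfl⟩).symm

/-- **Normal defect group: one degree at height zero forces nilpotency.** -/
theorem nilp_of_degree {D : Subgroup G} (hD : IsDef p (blk hB) D) (hn : D.Normal) :
    Nilp p (blk hB) := by
  obtain ⟨ω, hω⟩ := exists_pairOf_isDef hD
  have hb : Top p (⟨D, ω⟩ : Idx (Res M) G) := top_of_isDef hω hD
  exact NormalNilp.nilp_of_normal hb hω hn fun x hx hreg =>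
    mem_centralizer_of_mem_stab hM hB hd hb hω hn hx hreg

end Cfsg.Agent.Lib.EqualDegree.Quotient
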